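import Cfsg.Agent.H10.K.F

/-! Eight-dimensional orthogonal modules of `S₃ × S₃ × S₃`. -/

set_option autoImplicit false
set_option linter.unusedSectionVars false
set_option synthInstance.maxSize 2000

namespace H10.O
open H16 H10.Y H10.R

abbrev S3 := Equiv.Perm (Fin 3)
abbrev T3 := S3 × S3 × S3
def r3 : S3 := finRotate 3
def sw : S3 := Equiv.swap 0 1
def gn (k : ℕ) : T3 := match k with
  | 0 => (r3, 1, 1)
  | 1 => (1, r3, 1)
  | 2 => (1, 1, r3)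
  | 3 => (sw, 1, 1)
  | 4 => (1, sw, 1)
  | _ => (1, 1, sw)
def s0 : T3 := (sw, sw, sw)
def fU (k : ℕ) (v : U) : U := match k with
  | 0 => (w * v.1, w * v.2.1, bar w * v.2.2.1, bar w * v.2.2.2)
  | 1 => (w * v.1, bar w * v.2.1, w * v.2.2.1, bar w * v.2.2.2)
  | 2 => (w * v.1, bar w * v.2.1, bar w * v.2.2.1, w * v.2.2.2)
  | 3 => (bar v.2.1, bar v.1, bar v.2.2.2, bar v.2.2.1)
  | 4 => (bar v.2.2.1, bar v.2.2.2, bar v.1, bar v.2.1)
  | _ => (bar v.2.2.2, bar v.2.2.1, bar v.2.1, bar v.1)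

theorem d1 : ∀ k : T3, k * k * k = 1 → (∃ a < 3, ∃ b < 3, ∃ c < 3, k = gn 0 ^ a * gn 1 ^ b * gn 2 ^ c) ∧
    k * s0 = s0 * k * k ∧ (∀ i < 3, ∃ a < 3, k * gn (i + 3) = gn (i + 3) * (k * gn i ^ a)) ∧ (k ≠ 1 → ∃ i < 3, ∃ j < 3,
      ∀ l < 3, ∃ a < 3, ∃ b < 3, ∃ c < 3, gn l = k ^ a * gn i ^ b * gn j ^ c) := by decide +kernel
theorem d2 : (∀ i < 3, gn i * gn i * gn i = 1 ∧ gn i ≠ 1 ∧ gn (i + 3) * gn (i + 3) = 1) ∧
    (∀ k l : T3, k * k * k = 1 → l * l * l = 1 → k * l = l * k) ∧ ∀ a < 3, ∀ b < 3, ∀ c < 3,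
    gn 0 ^ a * gn 1 ≠ 1 ∧ (gn 0 ^ a * gn 1) ^ b * (gn 0 ^ c * gn 2) ≠ 1 := by decide +kernel

variable {V : Type*} [AddCommGroup V] [DistribMulAction T3 V] {q : V → ZMod 2} {b : V → V → ZMod 2} {p : F4 →+ V}
  {k x y : T3} {l : F4} {v : V}

theorem c3 (hk : k * k * k = 1) (hx : x * x * x = 1) (n : ℕ) : k ^ n * x * (k ^ n * x) * (k ^ n * x) = 1 := by
  have c : Commute (k ^ n) x := Commute.pow_left (d2.2.1 _ _ hk hx) n
  rw [← pow_three', c.mul_pow, ← pow_mul, mul_comm, pow_mul, pow_three', pow_three', hk, hx]; simp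
theorem acp (h : Ac p k l) (n : ℕ) : Ac p (k ^ n) (l ^ n) := by
  induction n with
  | zero => exact fun a => by simp
  | succ n ih => rw [pow_succ, pow_succ]; exact ih.mul h

/-- `k` acts on the plane by a scalar -/
def Eg (p : F4 →+ V) (k : T3) : Prop := ∃ l, l ≠ 0 ∧ Ac p k l
theorem Eg.mul (h : Eg p k) (h' : Eg p x) : Eg p (k * x) :=
  let ⟨_, a, e⟩ := h; let ⟨_, a', e'⟩ := h'; ⟨_, mul_ne_zero a a', e.mul e'⟩
theorem Eg.pow (h : Eg p k) (n : ℕ) : Eg p (k ^ n) := let ⟨_, a, e⟩ := h; ⟨_, pow_ne_zero n a, acp e n⟩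
theorem Eg.kil (h : Eg p k) (a : Ac p x w) : ∃ n < 3, Ac p (x ^ n * k) 1 := by
  obtain ⟨l, l0, e⟩ := h
  obtain ⟨n, hn, f⟩ := (by decide : ∀ l : F4, l ≠ 0 → ∃ n < 3, w ^ n * l = 1) l l0
  exact ⟨n, hn, f ▸ (acp a n).mul e⟩

/-- the weight space of the plane -/
def Cp (p : F4 →+ V) (v : V) : Prop := ∀ k : T3, k * k * k = 1 → (Ac p k 1 → k • v = v) ∧ (Ac p k w → fp k v)

/-- a weight plane -/
structure WP (q : V → ZMod 2) (p : F4 →+ V) (x : T3) : Prop where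
  pl : Pl q p
  x3 : x * x * x = 1
  ac : Ac p x w
  eg : ∀ k : T3, k * k * k = 1 → Eg p k

variable (h : QA T3 q b)
include h

theorem pl (x3 : x * x * x = 1) (x1 : x ≠ 1) : ∃ p, WP q p x := by
  obtain ⟨i, hi, j, hj, g⟩ := (d1 x x3).2.2.2 x1
  have gi := (d2.1 i hi).1
  have gj := (d2.1 j hj).1
  obtain ⟨v, v0, f⟩ := exP1 h x3 x1
  obtain ⟨p, l, m, p0, a, a', a'', hl, hm, -⟩ := wts h x3 gi gj (d2.2.1 _ _ x3 gi) (d2.2.1 _ _ x3 gj) (d2.2.1 _ _ gi gj) v0 f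
  have n : ∀ l : F4, (l = 1 ∨ l = w ∨ l = bar w) → l ≠ 0 := by decide
  have e : ∀ l < 3, Eg p (gn l) := fun l hl' => by
    obtain ⟨_, -, _, -, _, -, e⟩ := g l hl'
    exact e ▸ ((Eg.pow ⟨_, w0, a⟩ _).mul (Eg.pow ⟨_, n _ hl, a'⟩ _)).mul (Eg.pow ⟨_, n _ hm, a''⟩ _)
  refine ⟨p, p0, x3, a, fun k hk => ?_⟩
  obtain ⟨_, -, _, -, _, -, rfl⟩ := (d1 k hk).1
  exact (((e 0 (by decide)).pow _).mul ((e 1 (by decide)).pow _)).mul ((e 2 (by decide)).pow _)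

theorem prj (p0 : Pl q p) (v : V) : ∃ a, ∀ c, b (p c) (v + p a) = 0 := by
  obtain ⟨a, e1, e2⟩ := (show ∀ s t : ZMod 2, ∃ a, s + tr (1 * bar a) = 0 ∧ t + tr (w * bar a) = 0 by decide)
    (b (p 1) v) (b (p w) v)
  rw [← h.plb p0, ← h.badd'] at e1 e2
  refine ⟨a, fun c => ?_⟩
  rcases f4 c with rfl | rfl | rfl | rfl
  exacts [by rw [map_zero, h.b0], e1, e2, by rw [bw, map_add, h.badd, e1, e2, add_zero]]

theorem ext1 (p0 : Pl q p) (n : ¬ ∀ v, Cp p v → ∃ a, v = p a) : ∃ e, e ≠ 0 ∧ Cp p e ∧ ∀ c, b (p c) e = 0 := by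
  push Not at n
  obtain ⟨v, c, n⟩ := n
  obtain ⟨a, e⟩ := prj h p0 v
  exact ⟨_, fun k => n a (h.eq_iff.1 k), fun k hk => ⟨fun f => by rw [smul_add, (c k hk).1 f, f, one_mul],
    fun f => ((c k hk).2 f).add (h.afp f (.inl rfl) a)⟩, e⟩

theorem mone : ∃ p x, WP q p x ∧ ∀ v, Cp p v → ∃ a, v = p a := by
  by_contra! n
  have g := fun i hi => (d2.1 i hi).1
  obtain ⟨p1, w1⟩ := pl h (g 0 (by decide)) (by decide)
  obtain ⟨i, hi, a2⟩ := (w1.eg _ (g 1 (by decide))).kil w1.ac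
  obtain ⟨j, hj, a3⟩ := (w1.eg _ (g 2 (by decide))).kil w1.ac
  have k2 := c3 w1.x3 (g 1 (by decide)) i
  have k' := c3 w1.x3 (g 2 (by decide)) j
  obtain ⟨p2, w2⟩ := pl h k2 (d2.2.2 i hi 0 (by decide) 0 (by decide)).1
  obtain ⟨l, hl, b3⟩ := (w2.eg _ k').kil w2.ac
  have k3 := c3 k2 k' l
  obtain ⟨p3, w3⟩ := pl h k3 (d2.2.2 i hi l hl j hj).2
  replace a3 := ((acp a2 l).mul a3).eq (m := 1) (by simp)
  generalize (gn 0 ^ i * gn 1) ^ l * _ = y at *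
  generalize gn 0 ^ i * gn 1 = x at *
  obtain ⟨e1, n1, c1, o1⟩ := ext1 h w1.pl (by simpa using n _ _ w1)
  obtain ⟨e2, n2, c2, o2⟩ := ext1 h w2.pl (by simpa using n _ _ w2)
  obtain ⟨u, hu⟩ := h.exb n1
  have f2 := (c1 x k2).1 a2
  have f3 := (c1 y k3).1 a3
  obtain ⟨β, o3⟩ := prj h w1.pl (P0 x (P0 y u))
  obtain ⟨o, p1', pw⟩ := h.ex_pl e1 (P0 x (P0 y u) + p1 β)
  have ox : Ac o x 1 := .of (by rw [p1', f2]) (by rw [one_mul, pw, smul_add, P0_fix k2, a2, one_mul])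
  have oy : Ac o y 1 := .of (by rw [p1', f3]) (by
    rw [one_mul, pw, smul_add, P0_cm (d2.2.1 _ _ k3 k2), P0_fix k3, a3, one_mul])
  obtain ⟨_, e, -, he, -⟩ := h.frame (h.plb w1.pl) (h.bp (p := o) (by
      rw [p1', pw, h.badd', h.bP0 f2 k2, h.bP0 f3 k3, hu, h.symm, o1, add_zero])) (h.plb w2.pl) (h.plb w3.pl)
    (fun a c => by
      rcases f4 c with rfl | rfl | rfl | rfl
      exacts [by rw [map_zero, h.b0'], p1' ▸ o1 a, pw ▸ o3 a, by rw [bw, map_add, h.badd', p1', pw, o1, o3, add_zero]])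
    (h.ot a2 w2.ac (.inl rfl)) (h.ot a3 w3.ac (.inl rfl)) (h.ot ox w2.ac (.inl rfl)) (h.ot oy w3.ac (.inl rfl))
    (h.ot b3 w3.ac (.inl rfl))
  refine n2 (h.nd _ fun v => ?_)
  obtain ⟨v, rfl⟩ := e.surjective v
  have f := (c2 x k2).2 w2.ac
  rw [he, h.badd', h.badd', h.badd', h.orth ((c2 y k3).1 b3) (h.afp w3.ac (.inl rfl) _), h.symm, h.symm e2, h.symm e2,
    h.orth (by rw [a2, one_mul]) f, h.orth (by rw [ox, one_mul]) f, o2]; rfl

variable (W : WP q p x) (H : ∀ v, Cp p v → ∃ a, v = p a)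
include W H

theorem semi : ∃ α, α ≠ 0 ∧ ∀ a, s0 • p a = p (α * bar a) := by
  obtain ⟨α, e⟩ := H (s0 • p 1) fun k hk => ⟨fun f => by simpa using f.conj2 (d1 k hk).2.1 1,
    fun f => h.afp (f.conj2 (d1 k hk).2.1) (.inr ww) 1⟩
  have e' : s0 • p w = p (α * bar w) := by
    have := (W.ac.conj2 (d1 x W.x3).2.1).mul (W.ac.conj2 (d1 x W.x3).2.1) 1
    rw [sm_apply, sm_apply, e, (W.ac.mul W.ac), show w * w * (w * w) * 1 = w by decide, ww, mul_comm] at this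
    exact this.symm
  refine ⟨α, fun k => ?_, fun a => ?_⟩
  · have := h.pls (x := s0) W.pl 1
    rw [sm_apply, e, k, map_zero, h.q0] at this
    exact absurd this (by decide)
  rcases f4 a with rfl | rfl | rfl | rfl
  exacts [by simp, by simpa using e, e', by rw [barbar, bw, map_add, smul_add, e, e', ← map_add, bw]; congr 1; generalize α = β; revert β; decide]

theorem lin {i : ℕ} (hi : i < 3) (f : Ac p (gn i) 1) (a : F4) : gn (i + 3) • p a = p a := by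
  have k : ∀ (k : T3) l, k * k * k = 1 → Ac p k l → Ac (sm (gn (i + 3)) p) k l := fun k l hk g =>
    let ⟨n, _, e⟩ := (d1 k hk).2.2.1 i hi
    ((g.mul (acp f n)).eq (by simp)).conj e
  obtain ⟨α, e⟩ := H (gn (i + 3) • p 1) fun k' hk => ⟨fun f => by simpa using k _ _ hk f 1,
    fun f => h.afp (k _ _ hk f) (.inl rfl) 1⟩
  have e' : gn (i + 3) • p w = p (α * w) := by
    have := k _ _ W.x3 W.ac 1
    rwa [sm_apply, sm_apply, e, W.ac, mul_one, mul_comm, eq_comm] at this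
  have e'' := Ac.of e e'
  have := (e''.mul e'') 1
  rw [(d2.1 i hi).2.2, one_smul, mul_one] at this
  have e1 := h.plb W.pl 1
  have e2 := h.plb W.pl w
  rw [e'', (show ∀ α : F4, tr (1 * bar (α * α)) = tr (1 * bar 1) → tr (w * bar (α * α)) = tr (w * bar 1) → α = 1 by decide) α
    (by rw [← e1, ← e1, this]) (by rw [← e2, ← e2, this]), one_mul]

omit W H in
theorem tens (p0 : Pl q p) {α : F4} (α0 : α ≠ 0) (s : ∀ a, s0 • p a = p (α * bar a))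
    (n : ∀ i < 3, ∃ l, (l = w ∨ l = bar w) ∧ Ac p (gn i) l) : ∃ (_ : DistribMulAction T3 U) (e : U ≃+ V),
      (∀ (g : T3) v, e (g • v) = g • e v) ∧ (∀ v, q (e v) = qf v) ∧ ∀ k, ∀ v : U, gn k • v = fU k v := by
  obtain ⟨l, hl, a⟩ := n 0 (by decide)
  obtain ⟨m, hm, a'⟩ := n 1 (by decide)
  obtain ⟨o, ho, a''⟩ := n 2 (by decide)
  have fl : ∀ {k y : T3} {l}, Ac p k l → (l = w ∧ k * y = y * k ∨ l * l = w ∧ k * y = y * k * k) → Ac (sm y p) k w :=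
    fun a n => n.elim (fun n => n.1 ▸ a.conj n.2) fun n => n.1 ▸ a.conj2 n.2
  obtain ⟨y, ys, r, r', r''⟩ := (show ∀ l m o : F4, (l = w ∨ l = bar w) → (m = w ∨ m = bar w) → (o = w ∨ o = bar w) →
    ∃ y ∈ [(1 : S3), sw].product ([(1 : S3), sw].product [(1 : S3), sw]), s0 * y = y * s0 ∧
      (l = w ∧ gn 0 * y = y * gn 0 ∨ l * l = w ∧ gn 0 * y = y * gn 0 * gn 0) ∧
      (m = w ∧ gn 1 * y = y * gn 1 ∨ m * m = w ∧ gn 1 * y = y * gn 1 * gn 1) ∧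
      (o = w ∧ gn 2 * y = y * gn 2 ∨ o * o = w ∧ gn 2 * y = y * gn 2 * gn 2) by decide +kernel) l m o hl hm ho |>.imp
      fun _ h => h.2
  obtain ⟨β, b1, b2⟩ := (by decide : ∀ α : F4, α ≠ 0 → ∃ β, (∀ a, α * bar (β * a) = β * bar a) ∧ ∀ a, nm (β * a) = nm a) α α0
  let p' := (sm y p).comp (AddMonoidHom.mulLeft β)
  have sc : ∀ {k : T3}, Ac (sm y p) k w → Ac p' k w := fun a c => (a _).trans (congrArg _ (mul_left_comm ..))
  replace a := sc (fl a r)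
  replace a' := sc (fl a' r')
  replace a'' := sc (fl a'' r'')
  replace s : ∀ a, s0 • p' a = p' (bar a) := fun a => (cms ys _).trans ((congrArg _ (s _)).trans (congrArg (y • p ·) (b1 a)))
  replace p0 : Pl q p' := fun a => (h.pls p0 _).trans (b2 a)
  generalize p' = p at *
  have A1 := a.conj (k := gn 0) (x := gn 3 * s0) (by decide)
  have A2 := (a.conj2 (k := gn 0) (x := gn 4 * s0) (by decide)).eq ww
  have A3 := (a.conj2 (k := gn 0) (x := gn 5 * s0) (by decide)).eq ww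
  have B1 := (a'.conj2 (k := gn 1) (x := gn 3 * s0) (by decide)).eq ww
  have B2 := a'.conj (k := gn 1) (x := gn 4 * s0) (by decide)
  have B3 := (a'.conj2 (k := gn 1) (x := gn 5 * s0) (by decide)).eq ww
  have C1 := (a''.conj2 (k := gn 2) (x := gn 3 * s0) (by decide)).eq ww
  have C2 := (a''.conj2 (k := gn 2) (x := gn 4 * s0) (by decide)).eq ww
  have C3 := a''.conj (k := gn 2) (x := gn 5 * s0) (by decide)
  have o := ((a.mul a').mul a'').eq (m := 1)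
  have o1 := h.ot o ((A1.mul B1).mul C1) (by decide)
  have o2 := h.ot o ((A2.mul B2).mul C2) (by decide)
  have o3 := h.ot o ((A3.mul B3).mul C3) (by decide)
  have oo : ∀ {x y z : T3}, Ot b p (sm z p) → y = x * z → Ot b (sm x p) (sm y p) := fun o e a c => by
    rw [sm_apply, sm_apply, e, mul_smul, h.ib]; exact o a c
  obtain ⟨i, e, he, he', -, hq, d⟩ := h.frame (h.plb p0) (h.plb (h.pls p0)) (h.plb (h.pls p0)) (h.plb (h.pls p0)) o1 o2 o3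
    (oo o3 (by decide)) (oo o2 (by decide)) (oo o1 (by decide))
  have t : ∀ (x y : T3) a, x • y • p a = (x * y * s0) • p (bar a) := fun x y a => by rw [mul_smul, mul_smul, s, barbar]
  have t' : ∀ (x : T3) a, x • p a = (x * s0) • p (bar a) := fun x a => by rw [mul_smul, s, barbar]
  refine ⟨i, e, he, fun v => by rw [hq, p0, h.pls p0, h.pls p0, h.pls p0, qf], fun k v => ?_⟩
  have u : ∀ i ∈ [3, 4, 5], gn i * (gn i * s0) * s0 = 1 := by decide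
  have u' : ∀ t ∈ [(3, 4, 5), (3, 5, 4), (4, 3, 5), (4, 5, 3), (5, 3, 4), (5, 4, 3)],
    gn t.1 * (gn t.2.1 * s0) * s0 = gn t.2.2 * s0 := by decide
  simp only [List.forall_mem_cons] at u u'
  obtain rfl | rfl | rfl | rfl | rfl | e5 : k = 0 ∨ k = 1 ∨ k = 2 ∨ k = 3 ∨ k = 4 ∨ gn k = gn 5 ∧ fU k v = fU 5 v := by
    unfold gn fU; split <;> simp
  iterate 3 first | exact d _ _ _ _ _ a A1 A2 A3 v | exact d _ _ _ _ _ a' B1 B2 B3 v | exact d _ _ _ _ _ a'' C1 C2 C3 v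
  all_goals
    try rw [e5.1, e5.2]
    refine e.injective ?_
    simp only [he, he', sm_apply, smul_add, t, u, u', fU, one_smul]
    rw [t']; abel

end H10.O
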