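import Cfsg.Agent.H10.O.A

/-! Centralizers `2¹⁺⁸.(S₃ × S₃ × S₃)`: the tensor module. -/

set_option autoImplicit false
set_option linter.unusedSectionVars false
set_option synthInstance.maxSize 2000

open Subgroup
namespace H10.O
open H0 H19 H16 H0.Am H10.Y H10.R

theorem c216 : Nat.card T3 = 216 := by simp [Fintype.card_perm, Nat.factorial]

theorem syl {S : Subgroup T3} (hp : IsPGroup 2 S) (h8 : 8 ≤ #S) : ∃ γ : T3, S.map (MulAut.conj γ).toMonoidHom = C[s0] := by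
  have c : #C[s0] = 8 := by
    rw [Nat.card_congr (Equiv.subtypeEquivRight fun x => mem_cent1), Nat.card_eq_fintype_card]; decide +kernel
  obtain ⟨P, hP⟩ := hp.exists_le_sylow
  obtain ⟨γ, e⟩ := MulAction.exists_smul_eq T3 P (Sylow.ofCard C[s0] (by
    rw [c, c216, Nat.factorization_def _ Nat.prime_two, show 216 = 2 ^ 3 * 27 from rfl,
      padicValNat_base_pow_mul (by decide) (by decide), padicValNat.eq_zero_of_not_dvd (by decide)]; rfl))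
  refine ⟨γ, eq_of_le_of_card_ge ((map_mono hP).trans (congrArg Sylow.toSubgroup e).le) ?_⟩
  rwa [card_map_of_injective (MulAut.conj γ).injective, c]

theorem d3 : (∀ y : T3, y * s0 = s0 * y → y = s0 ∨ ∃ i < 3, gn i * y = y * gn i) ∧ (∀ i < 3, gn (i + 3) * s0 = s0 * gn (i + 3) ∧
    gn (i + 3) ≠ 1 ∧ gn i * gn (i + 3) * (gn i)⁻¹ * s0 ≠ s0 * (gn i * gn (i + 3) * (gn i)⁻¹)) ∧
    ∀ α : F4, α ≠ 0 → nm (α * bar 1 + 1) = 0 → nm (α * bar w + w) ≠ 0 := by decide +kernel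

variable {G V : Type*} [Group G] [Finite G] [AddCommGroup V] {q : V → ZMod 2} {b : V → V → ZMod 2} {Q Q' : Subgroup G}
  {z t g : G} {π : G → V} {ρ : G → V →+ V} {θ : C[z] →* T3}

/-- the quotient map, normalized with respect to `Q'` -/
structure TH (Q : Subgroup G) (z : G) (θ : C[z] →* T3) (Q' : Subgroup G) : Prop where
  sur : Function.Surjective θ
  kr : ∀ x, θ x = 1 ↔ x.1 ∈ Q
  hw : ∀ w, w * s0 = s0 * w ↔ ∃ y : C[z], y.1 ∈ Q' ∧ θ y = w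

theorem norm8 (hs : Function.Surjective θ) (hk : ∀ x, θ x = 1 ↔ x.1 ∈ Q) (L : LE Q' t)
    (h8 : 8 * #(Q ⊓ Q' : Subgroup G) ≤ #(Q' ⊓ C[z] : Subgroup G)) :
    ∃ γ : T3, TH Q z ((MulAut.conj γ).toMonoidHom.comp θ) Q' := by
  have h1 := card_ker_mul θ (Q'.subgroupOf C[z])
  rw [← inf_subgroupOf_right, card_subgroupOf' inf_le_right, inf_subgroupOf_right] at h1
  have h2 : #(θ.ker ⊓ Q'.subgroupOf C[z] : Subgroup _) ≤ #(Q ⊓ Q' : Subgroup G) := by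
    rw [← card_map_of_injective C[z].subtype_injective]
    exact card_le_of_le (by rintro _ ⟨x, hx, rfl⟩; exact ⟨(hk x).1 hx.1, hx.2⟩)
  obtain ⟨γ, e⟩ := syl (S := (Q'.subgroupOf C[z]).map θ) (((pG_iff.1 L.es.pg).comap_subtype (K := C[z])).map θ) (by
    have : 0 < #(Q ⊓ Q' : Subgroup G) := Nat.card_pos
    nlinarith)
  refine ⟨γ, (MulAut.conj γ).surjective.comp hs, fun x => by simp [hk], fun w => ?_⟩
  rw [← mem_cent1, ← e, map_map]; rfl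

theorem cz (x : C[z]) : Commute z x := (mem_cent1.1 x.2).symm

theorem wc (h : W (conjugatesOf z) Q z π ρ q b) (hs : Function.Surjective θ) (hk : ∀ x, θ x = 1 ↔ x.1 ∈ Q)
    (ht : t ∈ conjugatesOf z) (c : Commute z t) (ne : t ≠ z) (n : z * t ∉ conjugatesOf z) : False := by
  obtain ⟨Q', π', ρ', p⟩ : ∃ Q' π' ρ', Pr (conjugatesOf z) Q z π ρ Q' t π' ρ' q b := by
    obtain ⟨k, rfl⟩ := isConj_iff.1 ht
    exact ⟨_, _, _, h, h.J k, c, ne⟩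
  obtain ⟨γ, T⟩ := norm8 hs hk p.r.le (by
    have := p.symm.c32 (p.symm.npp (c.eq ▸ n))
    have := p.B4 (p.npp n)
    omega)
  generalize (MulAut.conj γ).toMonoidHom.comp θ = θ at T
  obtain ⟨_, a, e⟩ := h.act θ T.sur T.kr
  obtain ⟨o, x, W, H⟩ := mone a
  obtain ⟨α, α0, s⟩ := semi a W H
  rcases d3.1 _ ((T.hw _).2 ⟨⟨t, mem_cent1.2 c.symm⟩, p.r.zQ, rfl⟩) with k | ⟨i, hi, k⟩
  · have : ∀ c, nm (α * bar c + c) = 0 := fun c => by rw [← W.pl, map_add, ← s, ← k, e]; exact p.nq n _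
    exact d3.2.2 α α0 (this _) (this _)
  obtain ⟨u, eu⟩ := T.sur (gn i)
  obtain ⟨u', c1, c2, eu'⟩ := p.cov n (cz u) fun v => by
    rw [← e, ← e, ← e ⟨t, mem_cent1.2 c.symm⟩, ← e ⟨t, mem_cent1.2 c.symm⟩, eu, cms k]
  obtain ⟨y, hy, ey⟩ := (T.hw _).1 (d3.2.1 i hi).1
  refine (d3.2.1 i hi).2.2 ((T.hw _).2 ⟨⟨u', mem_cent1.2 c1.symm⟩ * y * ⟨u', mem_cent1.2 c1.symm⟩⁻¹, p.r.nm c2 hy, ?_⟩)
  rw [map_mul, map_mul, map_inv, ey, (inv_mul_eq_one.1 (a.ff ((gn i)⁻¹ * θ ⟨u', mem_cent1.2 c1.symm⟩) fun v => by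
    rw [mul_smul, e, eu', ← e, eu, inv_smul_smul])).symm]

def aU (W : List ℕ) (v : U) : U := W.foldl (fun v k => fU k v) v

/-- the local structure at `z` -/
structure KT (Q : Subgroup G) (z : G) (π : G → U) (ρ : G → U →+ U) (θ : C[z] →* T3) (Q' : Subgroup G) (t : G) : Prop
    extends NW Q z π ρ qf bf Q' t, TH Q z θ Q' where
  act : ∀ (x : C[z]) W, θ x = evA gn W → ∀ v, ρ x v = aU W v

theorem kt (h : NW Q z π ρ q b Q' t) (T : TH Q z θ Q') : ∃ π ρ, KT Q z π ρ θ Q' t := by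
  obtain ⟨_, a, e⟩ := h.act θ T.sur T.kr
  obtain ⟨p, x, W, H⟩ := mone a
  obtain ⟨α, α0, s⟩ := semi a W H
  obtain ⟨c, hc⟩ : ∃ c, b (p c) (π t) ≠ 0 := by
    by_contra! k
    obtain ⟨y, hy, ey⟩ := (T.hw s0).1 rfl
    have : ∀ c, nm (α * bar c + c) = 0 := fun c => by
      rw [← W.pl, map_add, ← s, ← ey, e]; exact h.Eq0 (h.PE ⟨hy, y.2⟩ (k c))
    exact d3.2.2 α α0 (this _) (this _)
  obtain ⟨i, φ, he, hq, f⟩ := tens a W.pl α0 s fun i hi => by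
    obtain ⟨l, l0, f⟩ := W.eg _ (d2.1 i hi).1
    refine ⟨l, ((f4 l).resolve_left l0).resolve_left ?_, f⟩
    rintro rfl
    obtain ⟨y, hy, ey⟩ := (T.hw _).1 (d3.2.1 i hi).1
    exact (d3.2.1 i hi).2.1 (ey ▸ (T.kr y).2 (h.F1 ⟨hy, y.2⟩ hc (by
      rw [← e, ey, lin a W H hi f, h.qs.two]; exact h.E0)))
  refine ⟨_, _, ⟨h.congr qsU φ hq, h.lp⟩, T, fun x W ex v => φ.injective ?_⟩
  have : ∀ W v, evA gn W • v = aU W v := fun W => by
    induction W with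
    | nil => exact one_smul _
    | cons k W ih => intro v; rw [evA_cons, mul_smul, f, ih]; rfl
  simp [← e, ex, ← this, he]

theorem ex_kt (L : LE Q z) (hc : #Q = 512) (hs : Function.Surjective θ) (hk : ∀ x, θ x = 1 ↔ x.1 ∈ Q)
    (m : g * z * g⁻¹ ∈ Q) (ne : g * z * g⁻¹ ≠ z) :
    ∃ γ π ρ, KT Q z π ρ ((MulAut.conj γ).toMonoidHom.comp θ) (cj g Q) (g * z * g⁻¹) := by
  obtain ⟨V, _, π, ρ, q, b, h⟩ := exists_M L hc
  have n : NW Q z π ρ q b _ _ := ⟨h, L.lp m ne⟩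
  obtain ⟨γ, T⟩ := norm8 hs hk n.lp.r n.big
  exact ⟨γ, kt n T⟩

theorem ex_nw (L : LE Q z) (hc : #Q = 512) (hs : Function.Surjective θ) (hk : ∀ x, θ x = 1 ↔ x.1 ∈ Q)
    (c : Commute z (g * z * g⁻¹)) (ne : g * z * g⁻¹ ≠ z) : ∃ g, g * z * g⁻¹ ∈ Q ∧ g * z * g⁻¹ ≠ z := by
  by_contra! k
  obtain ⟨V, _, π, ρ, q, b, h⟩ := exists_M L hc
  have d : ∀ g, ∀ x ∈ conjugatesOf z, g * x * g⁻¹ ∈ conjugatesOf z := fun g x hx => hx.trans (isConj_iff.2 ⟨g, rfl⟩)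
  have w : W (conjugatesOf z) Q z π ρ q b := ⟨h, IsConj.refl z, d, fun y hy m => by
    obtain ⟨g, rfl⟩ := isConj_iff.1 hy; exact k g m⟩
  obtain ⟨z', hz, t, ht, c, ne, n⟩ := exNP (fun y hy => by
    obtain ⟨k, rfl⟩ := isConj_iff.1 hy; exact ⟨_, _, _, w.J k⟩) w.zD (isConj_iff.2 ⟨g, rfl⟩) c ne
  obtain ⟨k, rfl⟩ := isConj_iff.1 hz
  exact wc w hs hk (d k⁻¹ _ ht) (by simpa [mul_assoc] using c.map (MulAut.conj k⁻¹)) (fun e => ne (by rw [← e]; group))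
    fun m => n (by convert d k _ m using 1; group)

def t0 : U := (1, 1, 1, 1)
def RR (v : U) : Prop := ∀ e ∈ [((1, 1, 0, 0) : U), (1, 0, 1, 0), t0, (w, w, w, w)], bf v e = 0
instance : DecidablePred RR := fun _ => List.decidableBAll ..

theorem d4 : (∀ v : U, fU 3 v = v → fU 4 v = v → fU 5 v = v → v = 0 ∨ v = t0) ∧ (∀ v, RR v → ∃ a ∈ [0, ((1, 1, 0, 0) : U)],
    ∃ b ∈ [0, ((1, 0, 1, 0) : U)], ∃ c ∈ [0, t0], ∃ d ∈ [0, ((w, w, w, w) : U)], v = a + b + c + d) ∧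
    ∀ W ∈ [[3], [4], [5], [3, 4], [3, 5], [4, 5]], evA gn W * s0 = s0 * evA gn W ∧ (∃ v, RR v ∧ aU W v ≠ v) ∧
      ∀ v, qf (aU W v + v) = 0 ∧ (aU W v = v → ∃ u, aU W u + u = v) := by decide +kernel

variable {π : G → U} {ρ : G → U →+ U}

namespace KT
variable (h : KT Q z π ρ θ Q' t)
include h

theorem fix {v : U} (H : ∀ y : C[z], θ y * s0 = s0 * θ y → ρ y v = v) : v = 0 ∨ v = t0 := by
  have k : ∀ i < 3, fU (i + 3) v = v := fun i hi => by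
    obtain ⟨y, e⟩ := h.sur (gn (i + 3))
    exact (h.act y [i + 3] (e.trans (one_mul _).symm) v).symm.trans (H y (e ▸ (d3.2.1 i hi).1))
  exact d4.1 v (k 0 (by decide)) (k 1 (by decide)) (k 2 (by decide))

theorem rho {x y : C[z]} (e : θ x = θ y) (v : U) : ρ x v = ρ y v := by
  rw [← mul_inv_cancel_left x y, coe_mul, h.rmul (cz _) (cz _), h.rQ ((h.kr (x⁻¹ * y)).1 (by simp [e]))]

theorem tau : π t = t0 := (h.fix fun y k => by
  obtain ⟨x, hx, e⟩ := (h.hw _).1 k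
  rw [← h.rho e, h.yx ⟨hx, x.2⟩]).resolve_left h.x0

theorem pure (m : g * z * g⁻¹ ∈ Q) (ne : g * z * g⁻¹ ≠ z) : ∃ a : C[z], ρ a (π (g * z * g⁻¹)) = t0 := by
  have n : NW Q z π ρ qf bf _ _ := ⟨h.toM, h.le.lp m ne⟩
  obtain ⟨γ, T⟩ := norm8 h.sur h.kr n.lp.r n.big
  obtain ⟨a, rfl⟩ := h.sur γ
  refine ⟨a, (h.fix fun y k => ?_).resolve_left fun k => n.x0 (h.rinj (cz a) (k.trans (map_zero _).symm))⟩
  obtain ⟨x, hx, e⟩ := (T.hw _).1 k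
  rw [← h.rho (x := a * x * a⁻¹) (by simpa using e), coe_mul, coe_mul, h.rmul ((cz a).mul_right (cz x)) (cz a⁻¹),
    coe_inv, h.rinv (cz a), h.rmul (cz a) (cz x), n.yx ⟨hx, x.2⟩]

theorem et {v : U} : v ∈ Et Q Q' π ↔ RR v := by
  have k : ∀ W u e, evA gn W * s0 = s0 * evA gn W ∧ bf u t0 = 0 ∧ aU W u + u = e → e ∈ Et Q Q' π := fun W u e k => by
    obtain ⟨y, hy, ey⟩ := (h.hw _).1 k.1
    rw [← k.2.2, ← h.act y W ey]
    exact h.PE ⟨hy, y.2⟩ (h.tau ▸ k.2.1)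
  have e1 := k [4, 5] (1, 0, 0, 0) (1, 1, 0, 0) (by decide)
  have e2 := k [3, 5] (1, 0, 0, 0) (1, 0, 1, 0) (by decide)
  have e3 := h.tau ▸ h.Ex
  have e4 := k [4, 5] (w, 0, w, 0) (w, w, w, w) (by decide)
  have e0 := h.E0
  refine ⟨fun m => ?_, fun m => ?_⟩
  · simp only [RR, List.forall_mem_cons, h.Eb m, *]; simp
  obtain ⟨a, ha, b, hb, c, hc, d, hd, rfl⟩ := d4.2.1 v m
  refine h.Eadd (h.Eadd (h.Eadd ?_ ?_) ?_) ?_
  all_goals simp only [List.mem_cons, List.not_mem_nil, or_false] at *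
  exacts [by rcases ha with rfl | rfl <;> assumption, by rcases hb with rfl | rfl <;> assumption,
    by rcases hc with rfl | rfl <;> assumption, by rcases hd with rfl | rfl <;> assumption]

theorem cE {x : G} (hx : x ∈ Q) (H : ∀ c ∈ Q ⊓ Q', Commute x c) : x ∈ Q' := by
  obtain ⟨c, hc, e⟩ := h.et.2 (show RR (π x) from fun e he => by
    obtain ⟨c, hc, rfl⟩ := h.et.2 ((by decide +kernel : ∀ e ∈ [((1, 1, 0, 0) : U), (1, 0, 1, 0), t0, (w, w, w, w)], RR e) e he)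
    exact (h.cm x hx c hc.1).1 (H c hc))
  rcases h.eq_of hx hc.1 e.symm with rfl | rfl
  exacts [hc.2, mul_mem h.lp.zQ hc.2]

variable {W : List ℕ} (hW : W ∈ [[3], [4], [5], [3, 4], [3, 5], [4, 5]])
include hW

theorem exu : ∃ u : C[z], θ u = evA gn W ∧ u.1 * u = 1 := by
  obtain ⟨k1, ⟨v, hv, k2⟩, -⟩ := d4.2.2 W hW
  obtain ⟨u, hu, eu⟩ := (h.hw _).1 k1
  obtain ⟨c, hc, rfl⟩ := h.et.2 hv
  have s := h.lp.r.es
  rcases s.sq u hu with uu | uu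
  · exact ⟨u, eu, uu⟩
  have cc := (h.sq c hc.1).2 (h.Eq0 ⟨c, hc, rfl⟩)
  refine ⟨u * ⟨c, h.le.es.le_cent hc.1⟩, by rw [map_mul, (h.kr ⟨c, _⟩).2 hc.1, mul_one, eu],
    (s.sq _ (mul_mem hu hc.2)).resolve_right fun k => k2 ?_⟩
  rw [← h.act u W eu]
  refine h.fx (cz u) hc.1 (mul_left_cancel (a := u.1) (mul_right_cancel (b := c) ?_))
  rw [mul_assoc, mul_assoc, cc, mul_one, uu, ← k]; simp [mul_assoc]

theorem usq {y : C[z]} (e : θ y = evA gn W) (yy : y.1 * y = 1 ∨ y.1 * y = z) : y.1 * y = 1 := by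
  have k3 := (d4.2.2 W hW).2.2
  obtain ⟨u, eu, uu⟩ := h.exu hW
  have cu := cz u
  have m := (h.kr (u⁻¹ * y)).1 (by simp [e, eu])
  rw [← mul_inv_cancel_left u y, coe_mul] at yy ⊢
  generalize (u⁻¹ * y).1 = x at *
  have f : ρ u (π x) = π x := by
    rw [← h.qs.eq_iff, ← h.conj u cu x m, ← h.add _ (h.nm cu m) _ m, inv_eq_of_mul_eq_one_right uu, mul_assoc]
    exact yy.elim (fun e => by rw [e, h.p1]) fun e => (congrArg π e).trans h.pz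
  simp only [← h.act u W eu] at k3
  rw [(h.np_of cu uu k3 x m f).symm.mul_mul_mul_comm, uu, one_mul, h.sq x m]
  obtain ⟨v, k⟩ := (k3 _).2 f
  exact k ▸ (k3 v).1

end KT

end H10.O
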