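import Cfsg.Agent.H10.O.T

/-! Uniqueness of the centralizer `2¹⁺⁸.(S₃ × S₃ × S₃)`. -/

set_option autoImplicit false
set_option linter.unusedSectionVars false
set_option synthInstance.maxSize 2000

open Subgroup
namespace H10.O
open H0 H19 H16 H0.TR H0.Am H10.Y H10.R H10.K

def LG : List (List ℕ) := [[3], [0, 3], [4], [1, 4], [5], [2, 5]]

theorem d5 : (∀ γ : T3, ∃ U ∈ [[], [0], [1], [0, 1], [1, 0], [0, 1, 0]], ∃ V ∈ [[], [2], [3], [2, 3], [3, 2], [2, 3, 2]],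
    ∃ W ∈ [[], [4], [5], [4, 5], [5, 4], [4, 5, 4]], γ = evA (wds gn LG) (U ++ V ++ W)) ∧ ∀ U ∈ SQ, ltAll 6 U = 0 ∧ ∃ γ : T3,
      ∃ W ∈ [[3], [4], [5], [3, 4], [3, 5], [4, 5]], γ * evA (wds gn LG) U * γ⁻¹ = evA gn W := by decide +kernel

theorem exw (γ : T3) : ∃ W, ltAll 6 W = 0 ∧ γ = evA (wds gn LG) W := by
  obtain ⟨U, hU, V, hV, W, hW, e⟩ := d5.1 γ
  exact ⟨_, by clear e; revert U V W; decide +kernel, e⟩

variable {A G : Type*} [Group A] [Group G] [Finite A] [Finite G] {Q0 Q0' : Subgroup A} {Q Q' : Subgroup G} {z0 t0 : A}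
  {z t : G} {π0 : A → U} {ρ0 : A → U →+ U} {π : G → U} {ρ : G → U →+ U} {θ0 : C[z0] →* T3} {θ : C[z] →* T3}

theorem KT.cc (h : KT Q z π ρ θ Q' t) : #C[z] = 110592 := by
  rw [← θ.ker.card_mul_index, index_ker, MonoidHom.range_eq_top.2 h.sur, card_top, c216,
    show θ.ker = Q.subgroupOf C[z] from Subgroup.ext h.kr, card_subgroupOf' h.le.es.le_cent, h.card]

theorem rel (h0 : KT Q0 z0 π0 ρ0 θ0 Q0' t0) (h : KT Q z π ρ θ Q' t) {a : C[z0]} {x : C[z]} (e : θ x = θ0 a) (v : U) :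
    ρ x v = ρ0 a v := by
  obtain ⟨W, -, k⟩ := exw (θ x)
  rw [← PM.evA_flat] at k
  rw [h.act x _ k, h0.act a _ (e ▸ k)]

theorem k3 (h0 : KT Q0 z0 π0 ρ0 θ0 Q0' t0) (h : KT Q z π ρ θ Q' t) : ∃ ψ : C[z0] →* G, Function.Injective ψ ∧
    ψ.range = C[z] ∧ (∀ x, (ψ x ∈ Q ↔ x.1 ∈ Q0) ∧ (x.1 ∈ Q0 → π (ψ x) = π0 x)) ∧ ∀ x v, ρ (ψ x) v = ρ0 x v := by
  obtain ⟨φ, e⟩ := mlift h0.toM h.toM
  have L : Lf z0 z φ := ⟨h0.le, h.le, fun a ha => by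
    obtain ⟨x, k⟩ := h.sur (θ0 ⟨a, ha⟩)
    exact nrm_of h0.toM h.toM e (cz ⟨a, ha⟩) (cz x) (rel h0 h k), h.cc.trans h0.cc.symm⟩
  let Θ : N(graph φ) →* T3 := θ0.comp (((MonoidHom.fst A G).comp N(graph φ).subtype).codRestrict _ fun w => L.fst w.2)
  have k1 : ∀ w, Θ w = 1 → w.1.1 ∈ Q0 := fun w k => (h0.kr _).1 k
  have s1 : ∀ γ, ∃ w, Θ w = γ := fun γ => by
    obtain ⟨a, rfl⟩ := h0.sur γ
    obtain ⟨x, k⟩ := L.tot a a.2
    exact ⟨⟨_, k⟩, rfl⟩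
  choose x hx using fun k => show ∃ w : N(graph φ), w ^ 3 = 1 ∧ (k < 3 → Θ w = gn k) by
    by_cases hk : k < 3
    swap; exact ⟨1, one_pow _, fun e => (hk e).elim⟩
    obtain ⟨w, e⟩ := s1 (gn k)
    have l : gn k ^ 3 = 1 := (pow_three' _).trans (d2.1 k hk).1
    have p : (w.1.1 ^ 4) ^ (2 * 1 + 1) = 1 := by
      rw [← pow_mul, mul_comm, pow_mul]; exact h0.le.es.pow4 (k1 (w ^ 3) (by rw [map_pow, e, l]))
    obtain ⟨x, k1, k2⟩ := L.odd (pow_mem (L.fst w.2) 4) p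
    exact ⟨⟨_, k1⟩, Subtype.ext (Prod.ext p k2), fun _ => by
      rw [show Θ ⟨_, k1⟩ = Θ (w ^ 4) from rfl, map_pow, e, pow_succ, l, one_mul]⟩
  choose y hy using fun k => s1 (gn (k + 3))
  let w := fun k => if k % 2 = 0 then y (k / 2) else (y (k / 2))⁻¹ * x (k / 2)
  have ev : ∀ W, ltAll 6 W = 0 → Θ (evA w W) = evA (wds gn LG) W := fun W l => by
    rw [map_evA]
    refine evA_congr _ fun k hk => ?_
    have := ltAll_zero l k hk
    interval_cases k <;> simp only [w, Nat.reduceMod, Nat.reduceDiv, if_true, one_ne_zero, if_false, map_mul, map_inv, hy,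
      hx, Nat.ofNat_pos, Nat.one_lt_ofNat, Nat.reduceLT] <;> decide
  obtain ⟨S, I, hg, hS⟩ := exists_iso' L (π := fun k => (w k).1) (fun k => (w k).2) (fun W hW => by
    refine (map_evA w N(graph φ).subtype W).subst (motive := (· ∈ graph φ)) (?_ : (evA w W).1 ∈ _)
    rcases List.mem_append.1 hW with hW | hW <;> obtain ⟨U, hU, rfl⟩ := List.mem_map.1 hW
    swap
    · simp only [List.mem_cons, List.not_mem_nil, or_false] at hU
      rcases hU with rfl | rfl | rfl <;> simp [Am.evA_rp, w, hx]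
    obtain ⟨l, c, W, hW, ec⟩ := d5.2 U hU
    obtain ⟨a, rfl⟩ := s1 c
    rw [← ev _ l, ← map_inv, ← map_mul, ← map_mul] at ec
    obtain ⟨u, eu, uu⟩ := h0.exu hW
    obtain ⟨y, hy⟩ := L.tot u u.2
    obtain ⟨y', ey⟩ := h.sur (θ0 u)
    have yy := h.usq hW (y := ⟨y, L.snd hy⟩) (by
      have := (h.kr (y'⁻¹ * ⟨y, L.snd hy⟩)).2 (h.triv' (cz y') (cz ⟨y, L.snd hy⟩) fun v => by
        rw [rho_eq h0.toM h.toM e L hy, rel h0 h ey])
      rw [map_mul, map_inv, inv_mul_eq_one] at this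
      rw [← this, ey, eu]) (L.ker (uu ▸ mul_mem hy hy))
    have := sq_graph L hy (a * evA w U * a⁻¹).2 (Prod.ext uu yy) (k1 ((⟨_, hy⟩ : N(graph φ))⁻¹ * _) (by
      rw [map_mul, map_inv, ec, inv_mul_eq_one]; exact eu))
    simpa [Am.evA_rp, pow_two, mul_assoc] using nrm_conj (inv_mem a.2) this) bdE (fun a ha => by
      obtain ⟨W, l, k⟩ := exw (θ0 ⟨a, ha⟩)
      have m : (evA w W).1.1 ∈ gen (fun k => (w k).1.1) 6 :=
        Set.mem_of_eq_of_mem (map_evA w ((MonoidHom.fst A G).comp N(graph φ).subtype) W) (evA_mem_gen _ (ltAll_zero l))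
      have := (h0.kr (⟨a, ha⟩ * ⟨_, L.fst (evA w W).2⟩⁻¹)).1 (by
        rw [map_mul, map_inv, k, ← ev W l]; exact mul_inv_cancel _)
      simpa using mul_mem_sup this m) (by rw [h0.card, h0.cc])
  obtain ⟨f, m⟩ := I.exists_fun
  refine ⟨.mk' (fun a => f a) fun a b => (I.eq_iff (m _ (a * b).2) (mul_mem (m _ a.2) (m _ b.2))).1 rfl,
    fun a b e => Subtype.ext ((I.eq_iff (m _ a.2) (m _ b.2)).2 e),
    le_antisymm (by rintro _ ⟨a, rfl⟩; exact I.m2 (m _ a.2)) fun x hx => ?_, fun a => ?_,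
    fun a => rho_eq h0.toM h.toM e L (hS (m _ a.2))⟩
  · obtain ⟨a, ha⟩ := I.sur hx
    exact ⟨⟨a, I.m1 ha⟩, (I.eq_iff (m _ (I.m1 ha)) ha).1 rfl⟩
  have k : ∀ q : a.1 ∈ Q0, f a = φ ⟨a, q⟩ := fun q => (I.eq_iff (m _ a.2) (hg (mem_graph φ ⟨_, q⟩))).1 rfl
  refine ⟨⟨fun q => ?_, fun q => Set.mem_of_eq_of_mem (k q) (φ _).2⟩, fun q => (congrArg π (k q)).trans (e _ (mem_graph φ _))⟩
  obtain ⟨c, hc⟩ := graph_ex (φ := φ) q
  exact Set.mem_of_eq_of_mem ((I.eq_iff (m _ a.2) (hg hc)).2 rfl) (graph_fst hc)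

end H10.O
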