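import Cfsg.Agent.H10.O.D

/-! The involution generating the second parabolic subgroup. -/

set_option autoImplicit false
set_option linter.unusedSectionVars false
set_option synthInstance.maxSize 2000

open Subgroup
namespace H10.O
open H0 H19 H16 H0.TR H0.Am H0.Co H0.Fi H10.Y H10.R H10.K
open H0.PM (flat evA_flat)
open scoped commutatorElement

variable {A G : Type*} [Group A] [Group G] [Finite G] {z c : G}

theorem k4 [Finite A] {Q0 Q0' : Subgroup A} {Q Q' : Subgroup G} {z0 t0 : A} {t : G} {π0 : A → U} {ρ0 : A → U →+ U}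
    {π : G → U} {ρ : G → U →+ U} {θ0 : C[z0] →* T3} {θ : C[z] →* T3} (h0 : KT Q0 z0 π0 ρ0 θ0 Q0' t0)
    (h : KT Q z π ρ θ Q' t) : ∃ ψ : C[z0] →* G, Function.Injective ψ ∧ ψ.range = C[z] ∧ (∀ x, x.1 = z0 → ψ x = z) ∧
      (∀ x, x.1 ∈ Q0 → IsConj z (ψ x) → IsConj z0 x.1) ∧ ∀ c0, ¬ Commute c0 z0 → Commute c0 t0 → ∃ c, c * c = 1 ∧
        (∀ x, x.1 = t0 → c * z * c⁻¹ = ψ x * z) ∧ ∀ x, x.1 ∈ Q0' → Commute c0 x.1 → c * ψ x * c⁻¹ = ψ x := by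
  let τ : C[z0] := ⟨t0, h0.le.es.le_cent h0.tQ⟩
  have nz : t ∉ zpowers z := h.lp.notMem
  obtain ⟨ψ, i, r, p, e, et⟩ : ∃ ψ : C[z0] →* G, Function.Injective ψ ∧ ψ.range = C[z] ∧
      (∀ x, (ψ x ∈ Q ↔ x.1 ∈ Q0) ∧ (x.1 ∈ Q0 → π (ψ x) = π0 x)) ∧ (∀ x v, ρ (ψ x) v = ρ0 x v) ∧ ψ τ = t := by
    obtain ⟨ψ, i, r, p, e⟩ := k3 h0 h
    rcases h.eq_of ((p τ).1.2 h0.tQ) h.tQ (((p τ).2 h0.tQ).trans (h0.tau.trans h.tau.symm)) with k | k
    · exact ⟨ψ, i, r, p, e, k⟩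
    obtain ⟨x, hx, ex⟩ := h.le.es.exists_conj h.tQ nz
    have c := h.zc hx
    have cm : ∀ a, Commute z (ψ a) := fun a => cz ⟨_, r.le ⟨a, rfl⟩⟩
    refine ⟨(MulAut.conj x).toMonoidHom.comp ψ, (MulAut.conj x).injective.comp i, ?_, fun a => ⟨?_, fun m => ?_⟩,
      fun a v => ?_, ?_⟩
    · rw [MonoidHom.range_comp, r]; exact cj_of_mem (mem_cent1.2 c.symm)
    · exact .trans ⟨fun k => by simpa [mul_assoc] using h.nm c.inv_right k, h.nm c⟩ (p a).1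
    · exact (h.conj x c _ ((p a).1.2 m)).trans ((h.rQ hx _).trans ((p a).2 m))
    · exact (h.rmul (c.mul_right (cm a)) c.inv_right v).trans (by rw [h.rQ (inv_mem hx), h.rmul c (cm a), h.rQ hx, e])
    · change x * ψ τ * x⁻¹ = t
      rw [k, ← mul_assoc, ← c.eq, mul_assoc, mul_assoc, ← mul_assoc x, ex, ← (h.zc h.tQ).eq, ← mul_assoc, h.zz, one_mul]
  have cm : ∀ a, Commute z (ψ a) := fun a => cz ⟨_, r.le ⟨a, rfl⟩⟩
  have pz : ∀ x, x.1 = z0 → ψ x = z := fun x k => have m := Set.mem_of_eq_of_mem k h0.zQ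
    ((h.ker _ ((p x).1.2 m)).1 (((p x).2 m).trans ((congrArg π0 k).trans h0.pz))).resolve_left
      fun q => h0.z1 (by rw [← k, i (q.trans (map_one ψ).symm)]; rfl)
  have s := h.lp.r.es
  have Y : ∀ y : C[z0], y.1 ∈ Q0' → ψ y ∈ Q' := fun y hy => by
    obtain ⟨u, hu, eu⟩ := (h.hw _).1 ((h0.hw _).2 ⟨y, hy, rfl⟩)
    have m := h.triv' (cz u) (cm y) fun v => (rel h0 h eu v).trans (e y v).symm
    rw [← mul_inv_cancel_left u.1 (ψ y)]
    refine mul_mem hu (h.cE m fun c hc => by_contra fun n => h.lp.symm.notMem ?_)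
    obtain ⟨c0, hc0, ec⟩ := h0.et.2 (h.et.1 ⟨c, hc, rfl⟩)
    let γ : C[z0] := ⟨c0, h0.le.es.le_cent hc0.1⟩
    have q : ⁅ψ y, ψ γ⁆ ∈ zpowers t := by
      rw [← map_commutatorElement, ← et, ← MonoidHom.map_zpowers]
      obtain ⟨n, k⟩ := h0.lp.r.es.comm_mem hy hc0.2
      exact ⟨_, ⟨n, rfl⟩, congrArg ψ (Subtype.ext k)⟩
    replace q : ⁅ψ y, c⁆ ∈ zpowers t := by
      rcases h.eq_of hc.1 ((p γ).1.2 hc0.1) (ec.symm.trans ((p γ).2 hc0.1).symm) with k | k <;> rw [k]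
      · exact q
      · rw [show ⁅ψ y, z * ψ γ⁆ = ⁅ψ y, z⁆ * (z * ⁅ψ y, ψ γ⁆ * z⁻¹) by group, comm_eq_one.2 (cm y).symm, one_mul]
        exact nrm_conj (s.norm_zp (le_normalizer h.lp.zQ)) q
    rw [← h.le.es.comm_eq m hc.1 n, show ⁅u.1⁻¹ * ψ y, c⁆ = u.1⁻¹ * ⁅ψ y, c⁆ * u.1⁻¹⁻¹ * ⁅u.1⁻¹, c⁆ by group]
    exact mul_mem (nrm_conj (s.norm_zp (le_normalizer (inv_mem hu))) q) (s.comm_mem (inv_mem hu) hc.2)
  refine ⟨ψ, i, r, pz, fun x hx k => ?_, fun c0 n0 n1 => ?_⟩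
  · obtain ⟨g, eg⟩ := isConj_iff.1 k
    by_cases q : ψ x = z
    · rw [i (q.trans (pz ⟨z0, mem_cent1.2 rfl⟩ rfl).symm)]
    obtain ⟨⟨_, ha⟩, ea⟩ := h.pure (eg ▸ (p x).1.2 hx) (eg ▸ q)
    obtain ⟨a, rfl⟩ := r.ge ha
    rw [eg, e, (p x).2 hx, ← h0.conj a (cz a) x hx, ← h0.tau] at ea
    obtain ⟨b, eb, -⟩ := h0.lp.conj
    obtain ⟨d, -, ed⟩ := h0.le.es.exists_conj h0.tQ h0.lp.notMem
    refine .trans ?_ (isConj_iff.2 ⟨a.1, rfl⟩).symm
    rcases h0.eq_of (h0.nm (cz a) hx) h0.tQ ea with k | k <;> rw [k]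
    exacts [isConj_iff.2 ⟨b, eb⟩, (isConj_iff.2 ⟨b, eb⟩).trans (isConj_iff.2 ⟨d, ed.trans (h0.zc h0.tQ).eq.symm⟩)]
  let B := ((Q0' ⊓ C[c0]).subgroupOf C[z0]).map ψ
  obtain ⟨c, hc, n⟩ : ∃ c ∈ Q' ⊓ C(B), c * z ≠ z * c := by
    by_contra! k
    obtain ⟨x, hx, ex⟩ := (s.cent_cent (A := B) ⟨τ, ⟨h0.lp.r.es.zQ, mem_cent1.2 n1.symm⟩, et⟩
      (by rintro _ ⟨x, hx, rfl⟩; exact Y x hx.1)).le ⟨h.lp.zQ, mem_cent.2 k⟩
    rw [i (ex.trans (pz ⟨z0, mem_cent1.2 rfl⟩ rfl).symm)] at hx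
    exact n0 (mem_cent1.1 hx.2).symm
  have cz' := s.conj_eq hc.1 h.lp.zQ n
  have f : ∀ x : C[z0], x.1 ∈ Q0' → Commute c0 x.1 → c * ψ x * c⁻¹ = ψ x := fun x a b =>
    mul_inv_eq_iff_eq_mul.2 (mem_cent.1 hc.2 _ ⟨x, ⟨a, mem_cent1.2 b.symm⟩, rfl⟩).symm
  have g : ∀ x : C[z0], x.1 = t0 → c * z * c⁻¹ = ψ x * z := fun x k => by
    rw [cz', show x = τ from Subtype.ext k, et, h.lp.comm]
  rcases s.sq c hc.1 with cc | cc
  · exact ⟨c, cc, g, f⟩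
  refine ⟨c * z, ?_, fun x k => by rw [← g x k]; group, fun x a b => .trans (by rw [mul_assoc c, (cm x).eq]; group) (f x a b)⟩
  rw [show c * z * (c * z) = c * z * c⁻¹ * (c * c) * z by group, cz', cc, mul_assoc z, h.tt, mul_one, h.zz]

open Classical in
noncomputable def jj (j : ℕ → A) (k : ℕ) : C[j 0] := if h : j k ∈ C[j 0] then ⟨_, h⟩ else 1

/-- an identification of the centralizers -/
structure CZ (j : ℕ → A) (θ : C[j 0] →* T3) (ψ : C[j 0] →* G) (z : G) : Prop where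
  inj : Function.Injective ψ
  rng : ψ.range = C[z]
  z0 : ψ (jj j 0) = z
  nf : ∀ x, θ x = 1 → IsConj z (ψ x) → IsConj (j 0) x.1

/-- the action of the involution `c` -/
structure SC (j : ℕ → A) (ψ : C[j 0] →* G) (c : G) (n : ℕ) (V : List (List ℕ)) : Prop where
  cc : c * c = 1
  cj : ∀ k, ok1 n k = 0 → c * ψ (jj j k) * c⁻¹ = ψ (wds (jj j) V k)

variable {n k : ℕ} {U V W : List ℕ}

theorem wd (j : ℕ → A) (L : List (List ℕ)) (k : ℕ) : wds (jj j) L k = evA (jj j) (nth [] L k) := rfl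

theorem SC.w {j : ℕ → A} {ψ : C[j 0] →* G} {V : List (List ℕ)} (s : SC j ψ c n V) (e : okW n W = 0) :
    c * ψ (evA (jj j) W) * c⁻¹ = ψ (evA (jj j) (flat V W)) := by
  rw [evA_flat, map_evA, map_evA, ← evA_cj]
  exact evA_congr _ fun k hk => s.cj k (sumL_zero e k hk)

theorem fz {f : ℕ → ℕ} (e : force k f = 0) : f k = 0 := (force_eq k f).symm.trans e

theorem ok_iff : ok1 n k = 0 ↔ k < 5 + n ∨ 13 ≤ k ∧ k ≤ 15 := by
  simp only [ok1, orZ, ifz_eq, Nat.add_eq, Nat.sub_eq]; split_ifs <;> omega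

theorem ne9 (e : okH 16 9 W = 0) (hk : k ∈ W) : k < 16 ∧ k ≠ 9 := ⟨ltAll_zero (add0 e).1 k hk, fun e' => by
  have := sumL_zero (add0 e).2 k hk
  rw [ifz_eq, e', TR.xor_self, if_pos rfl] at this
  exact one_ne_zero this⟩

def sg (n : ℕ) : T3 →* ℤˣ := Equiv.Perm.sign.comp (match n with
  | 0 => .fst ..
  | 1 => (MonoidHom.fst ..).comp (.snd ..)
  | _ => (MonoidHom.snd ..).comp (.snd ..))

theorem d6 : ∀ n < 3, EQ ([5 + n] ++ nth [] VZ 0) (nth [] VZ 0 ++ [5 + n]) = 0 ∧ nth [] VZ (13 + n) = [13 + n] ∧ ∀ k < 16,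
    (sg n (evA gn (nth [] TL k)) = 1 ↔ k ≠ 2 + n) ∧ nth [] (TW n) k = (if k = 2 + n then [k, 0] else [k]) ∧
      ∀ i < 4, nth [] (VD n i) k = if k = 5 + n then nth [] LY i ++ nth [] VZ k else nth [] VZ k := by decide +kernel

variable {Ω : Type*} [MulAction A Ω] {g : ℕ → A} {pt : ℕ → Ω} (M : Md g pt H15.XW8p.P 256 8 H15.XW8p.B 174182400)
local notation "𝔧" => wds g J_W
local notation "𝔨" => jj (wds g J_W)
variable {θ : C[wds g J_W 0] →* T3} {ψ : C[wds g J_W 0] →* G}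
include M

theorem jv (h : k < 16 ∧ k ≠ 9) : (𝔨 k).1 = 𝔧 k := by
  rw [jj, dif_pos (mem_cent1.2 (by simpa using ((cK M).eq _ _ (add0 (add0 (add0 (Whc k h.1 h.2)).2).2).1).symm))]
theorem jW (e : okH 16 9 W = 0) : (evA 𝔨 W).1 = evA 𝔧 W :=
  (map_evA _ C[𝔧 0].subtype W).trans (evA_congr _ fun _ hk => jv M (ne9 e hk))
theorem je (e : EQ U V = 0) : evA 𝔨 U = evA 𝔨 V :=
  Subtype.ext (by rw [jW M ((cK M).ok _ _ e).1, jW M ((cK M).ok _ _ e).2, (cK M).eq _ _ e])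
theorem jn (e : NF U V = 0) : evA 𝔨 U ≠ evA 𝔨 V := fun k => (cK M).ne _ _ (add0 e).2 (by
  rw [← jW M (add0 (add0 e).1).1, ← jW M (add0 (add0 e).1).2, k])
theorem j2 (h : k < 16 ∧ k ≠ 9) : 𝔨 k * 𝔨 k = 1 := by simpa using je M (add0 (add0 (add0 (Whc k h.1 h.2)).2).2).2

theorem step (hθ : ∀ k, ok1 3 k = 0 → θ (𝔨 k) = evA gn (nth [] TL k)) (s : CZ 𝔧 θ ψ z) (hn : n < 3) (r : SC 𝔧 ψ c n VZ) :
    ∃ ψ c, CZ 𝔧 θ ψ z ∧ SC 𝔧 ψ c (n + 1) VZ := by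
  obtain ⟨d0, d1, d⟩ := d6 n hn
  have ci := inv_eq_of_mul_eq_one_right r.cc
  have c2 : ∀ x, c * (c * x * c⁻¹) * c⁻¹ = x := fun x => by rw [← mul_assoc, ← mul_assoc, r.cc, ci, mul_assoc, r.cc]; simp
  have cm : ∀ a, Commute z (ψ a) := fun a => cz ⟨_, s.rng.le ⟨a, rfl⟩⟩
  obtain ⟨a, ea⟩ := s.rng.ge (x := (ψ (wds 𝔨 VZ (5 + n)))⁻¹ * (c * ψ (𝔨 (5 + n)) * c⁻¹)) (mem_cent1.2
    ((cm _).inv_right.mul_right (by
      have := congrArg (fun x => c * ψ x * c⁻¹) (je M d0)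
      simp only [evA_append, map_mul, ← conj_mul, ← wd, ← r.cj 0 (ok_iff.2 (by omega)), c2, s.z0] at this
      simpa [commute_iff_eq] using this)).symm)
  obtain ⟨i, hi, e⟩ := LY_c M (a := a.1) fun k hk => by
    rcases k with _ | k
    · exact (mem_cent1.1 a.2).trans (congrArg (· * _) (one_mul _).symm) |> (congrArg _ (one_mul _)).trans
    obtain ⟨⟨e1, e2⟩, ⟨e3, e4⟩, e5, e6⟩ := (add0 (s1 n hn k (by omega))).imp add0 fun h => (add0 h).imp add0 add0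
    have h3 := r.cj _ e3
    have h5 := congrArg (fun x => c * ψ x * c⁻¹) (je M e5)
    have h6 := congrArg ψ (je M e6)
    rw [wd, neL_zero e2] at h3
    simp only [evA_append, evA_cons, evA_nil, one_mul, map_mul, ← conj_mul, r.w e4] at h3 h5 h6
    rw [wds.eq_1 _ LYX_W, neL_zero e1, evA_cons, evA_nil, one_mul, ← jv M (k := nth 0 UL k) (by have := ok_iff.1 e3; omega)]
    refine congrArg Subtype.val (s.inj (?_ : ψ (a * _) = ψ (_ * a)))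
    rw [map_mul, map_mul, ea, mul_assoc, ← h3, h5, h3, wd, ← mul_inv_eq_of_eq_mul h6]; group
  obtain ⟨⟨f1, f2⟩, f⟩ := (add0 (s2 n hn i hi)).imp add0 id
  replace e : a = evA 𝔨 (nth [] LY i) := Subtype.ext (e.trans (jW M f2).symm)
  have r' : SC 𝔧 ψ c (n + 1) (VD n i) := ⟨r.cc, fun k hk => by
    rw [ok_iff] at hk
    rw [wd, (d k (by omega)).2.2 i hi]
    split_ifs with q
    · rw [evA_append, map_mul, ← e, ea, q, ← wd, mul_inv_cancel_left]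
    · exact r.cj k (ok_iff.2 (by omega))⟩
  rcases orZ_zero f with f | f
  · refine (jn M f (s.inj ?_)).elim
    rw [← r'.w f1, ← wd, ← r'.cj _ (ok_iff.2 (by omega)), c2]; simp
  rcases orZ_zero f with f | f
  · exact ⟨ψ, c, s, r.cc, fun k hk => (r'.cj k hk).trans (by
      rw [wd, neL_zero (sumL_zero f k (List.mem_range.2 (by have := ok_iff.1 hk; omega)))]; rfl)⟩
  let ζ : ℤˣ → C[𝔧 0] := fun u => if u = 1 then 1 else 𝔨 0
  have zz := j2 M (k := 0) (by decide)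
  have zc : ∀ u x, ζ u * x = x * ζ u := fun u x => by
    simp only [ζ]; split_ifs
    exacts [by simp, Subtype.ext (by simpa [jv M (k := 0) (by decide)] using (mem_cent1.1 x.2).symm)]
  have zm : ∀ u v, ζ (u * v) = ζ u * ζ v := fun u v => by
    rcases Int.units_eq_one_or u with rfl | rfl <;> rcases Int.units_eq_one_or v with rfl | rfl <;> simp [ζ, zz]
  have z1 : ∀ u, θ (ζ u) = 1 := fun u => by
    simp only [ζ]; split_ifs
    exacts [map_one _, hθ 0 rfl]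
  let η : C[𝔧 0] →* C[𝔧 0] := .mk' (fun x => ζ (sg n (θ x)) * x) fun x y => by
    rw [map_mul, map_mul, zm, mul_assoc, mul_assoc, ← mul_assoc (ζ _) x y, zc _ x, mul_assoc]
  have ee : Function.Involutive η := fun x => by
    change ζ (sg n (θ (ζ _ * x))) * (ζ _ * x) = x
    rw [map_mul, z1, one_mul, ← mul_assoc, ← zm, Int.units_mul_self]; simp [ζ]
  have e1 : ∀ x, θ x = 1 → η x = x := fun x q => by
    change ζ _ * x = x
    simp [ζ, q]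
  have ek : ∀ k, ok1 (n + 1) k = 0 → η (𝔨 k) = wds 𝔨 (TW n) k := fun k hk => by
    rw [ok_iff] at hk
    change ζ _ * _ = _
    rw [wd, (d k (by omega)).2.1, hθ k (ok_iff.2 (by omega))]
    simp only [ζ, (d k (by omega)).1]
    split_ifs <;> simp_all
  have h := r.cj (13 + n) (ok_iff.2 (by omega))
  rw [wd, d1, evA_cons, evA_nil, one_mul, mul_inv_eq_iff_eq_mul] at h
  refine ⟨ψ.comp η, c * ψ (𝔨 (13 + n)), ⟨s.inj.comp ee.injective, by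
    rw [MonoidHom.range_comp, MonoidHom.range_eq_top.2 ee.surjective, ← MonoidHom.range_eq_map, s.rng],
    (congrArg ψ (e1 _ (hθ 0 rfl))).trans s.z0, fun x q k => s.nf x q (by rwa [MonoidHom.comp_apply, e1 x q] at k)⟩,
    by rw [← mul_assoc, mul_assoc c, ← h, ← mul_assoc, r.cc, one_mul, ← map_mul, j2 M (by omega), map_one], fun k hk => ?_⟩
  obtain ⟨⟨g1, g2⟩, g3, g4⟩ := (add0 (fz ((orZ_zero (sumL_zero f k (List.mem_range.2 (by
    have := ok_iff.1 hk; omega)))).resolve_left fun q => nz_zero q hk) :)).imp add0 add0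
  have h3 := congrArg ψ (je M g3)
  simp only [evA_append, evA_cons, evA_nil, one_mul, map_mul] at h3
  rw [MonoidHom.comp_apply, MonoidHom.comp_apply, ek k hk, wd, mul_assoc c, h3, wd, map_evA _ η,
    evA_congr _ fun l hl => ek l (sumL_zero g2 l hl), ← evA_flat, ← je M g4, ← r'.w g1]
  group

local notation "𝔔" => gen (wds (wds g J_W) Q_W) 9

theorem cle : C[𝔧 0] = gen (wds g Zce_W) 8 := by
  have := M.fin
  rw [← (Zc_eq M).1]
  exact le_antisymm (fun x hx => le_cent1_iff.1 (gen_le.2 fun k hk => by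
    interval_cases k; exact mem_cent1.2 (by simpa [wds, Z_W] using (mem_cent1.1 hx).symm)))
    fun x hx => mem_cent1.2 (by simpa [wds, Z_W] using (mem_cent.1 hx _ (mem_gen _ Nat.one_pos)).symm)

theorem cc0 : #C[𝔧 0] = 110592 := (congrArg (fun H : Subgroup A => #H) (cle M)).trans (Zc_eq M).2

theorem le0 : LE 𝔔 (𝔧 0) := by
  have := M.fin
  have e : wds 𝔧 Q_W 0 = 𝔧 0 := one_mul _
  exact e ▸ le_of_pc (Qp M) (by decide) (Qe M) ((Qc_eq M).1 ▸ (Qc_eq M).2) (e ▸ (cle M).le.trans (Qn M))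

omit M in
theorem qm (h : k ∈ [0, 1, 13, 14, 15, 5, 6, 7, 8]) : 𝔧 k ∈ 𝔔 := by
  obtain ⟨i, hi, e⟩ := (by decide +kernel : ∀ k ∈ [0, 1, 13, 14, 15, 5, 6, 7, 8], ∃ i < 9, nth [] Q_W i = [k]) k h
  simpa [wds.eq_1 _ Q_W, e] using mem_gen (wds 𝔧 Q_W) hi

omit M in
theorem okK : ∀ k < 15, okH 16 9 (nth [] K_W k) = 0 := by decide +kernel

theorem ktop : gen (wds 𝔨 K_W) 15 = ⊤ := map_injective C[𝔧 0].subtype_injective (by
  rw [← MonoidHom.range_eq_map, range_subtype, map_gen]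
  exact le_antisymm (gen_le.2 fun k _ => (wds 𝔨 K_W k).2) ((cle M).le.trans ((Zle M).trans (gen_le.2 fun k hk =>
    Set.mem_of_eq_of_mem (jW M (okK k hk)).symm (mem_gen (fun k => (wds 𝔨 K_W k).1) hk)))))

theorem th0 : ∃ θ : C[𝔧 0] →* T3, Function.Surjective θ ∧ (∀ x, θ x = 1 ↔ x.1 ∈ 𝔔) ∧
    ∀ k, ok1 3 k = 0 → θ (𝔨 k) = evA gn (nth [] TL k) := by
  have := M.fin
  have L := le0 M
  let N := (𝔔).subgroupOf C[𝔧 0]
  have : N.Normal := normal_subgroupOf_of_le_normalizer L.norm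
  let p := QuotientGroup.mk' N
  have o : (∀ k < 6, okH 16 9 (nth [] LW k) = 0) ∧ (∀ k < 15, (k < 9 → nth [] K_W k = nth [] Q_W k) ∧ (9 ≤ k → nth [] K_W k = nth [] LW (k - 9))) ∧ Rels (wds gn LG) RE ∧
      allL (ltAll 6) RE = true := by unfold Rels; decide +kernel
  have tp : gen (fun k => p (wds 𝔨 LW k)) 6 = ⊤ := by
    rw [eq_top_iff, ← MonoidHom.range_eq_top.2 (QuotientGroup.mk'_surjective N), MonoidHom.range_eq_map, ← ktop M, map_gen]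
    refine gen_le.2 fun k hk => (lt_or_ge k 9).elim (fun l => ?_) fun l => ?_
    · refine Set.mem_of_eq_of_mem ((QuotientGroup.eq_one_iff _).2 (mem_subgroupOf.2 (Set.mem_of_eq_of_mem
        (jW M (okK k hk)) ?_))) (one_mem _)
      exact (o.2.1 k hk).1 l ▸ mem_gen (wds 𝔧 Q_W) l
    · rw [wd, (o.2.1 k hk).2 l]; exact mem_gen (fun k => p (wds 𝔨 LW k)) (by omega)
  have cq : Nat.card (C[𝔧 0] ⧸ N) = 216 := by
    have := N.card_mul_index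
    rw [card_subgroupOf' L.es.le_cent, (Qp M).2, cc0 M] at this
    change N.index = _
    omega
  obtain ⟨f, e, r⟩ := bdE.exists_hom (g₀ := fun k => p (wds 𝔨 LW k)) (fun W hW => by
    rw [← map_evA, show evA (wds 𝔨 LW) W = 1 from Subtype.ext ((map_evA _ C[𝔧 0].subtype W).trans ((evA_congr _ fun k hk =>
      jW M (o.1 k (ltAll_zero (allL_sound o.2.2.2 W hW) k hk))).trans
        (H15.CS.rels M ((J_act M).wds LWc.2.1 6) LWc.1 W hW))), map_one]) (by rw [tp, card_top, cq]) o.2.2.1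
  have sf : Function.Surjective f := fun γ => r.ge (by
    obtain ⟨W, l, rfl⟩ := exw γ; exact evA_mem_gen _ (ltAll_zero l))
  have nf := ((Nat.bijective_iff_surjective_and_card f).2 ⟨sf, by rw [tp, card_top, cq, c216]⟩).1
  let θ := f.comp (p.codRestrict _ fun x => tp.ge trivial)
  have kr : ∀ x, θ x = 1 ↔ x.1 ∈ 𝔔 := fun x => (map_eq_one_iff f nf).trans (Subtype.ext_iff.trans (QuotientGroup.eq_one_iff x))
  refine ⟨θ, sf.comp fun ⟨x, _⟩ => ?_, kr, fun k hk => ?_⟩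
  · obtain ⟨x, rfl⟩ := QuotientGroup.mk'_surjective N x
    exact ⟨x, rfl⟩
  have t : ∀ i < 6, θ (wds 𝔨 LW i) = wds gn LG i := e
  have q : ∀ k ∈ [0, 1, 13, 14, 15, 5, 6, 7, 8], θ (𝔨 k) = 1 := fun k h =>
    (kr _).2 (Set.mem_of_eq_of_mem (jv M (by revert k; decide)) (qm h))
  rw [ok_iff] at hk
  obtain rfl | rfl | rfl | h : k = 2 ∨ k = 3 ∨ k = 4 ∨ k ∈ [0, 1, 13, 14, 15, 5, 6, 7] := by simp; omega
  all_goals clear hk
  exacts [(congrArg θ (one_mul _).symm).trans (t 0 (by decide)), (congrArg θ (one_mul _).symm).trans (t 2 (by decide)),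
    (congrArg θ (one_mul _).symm).trans (t 4 (by decide)), (q k (by revert k; decide)).trans (by revert k; decide +kernel)]

theorem ea (U V : List ℕ) (e : EA U V = 0 := by decide +kernel) : evA 𝔧 U = evA 𝔧 V := M.eq_of (J_act M) e

theorem start {Q : Subgroup G} {θ' : C[z] →* T3} (L : LE Q z) (hc : #Q = 512) (hs : Function.Surjective θ')
    (hk : ∀ x, θ' x = 1 ↔ x.1 ∈ Q) {a : G} (m : a * z * a⁻¹ ∈ Q) (ne : a * z * a⁻¹ ≠ z) :
    ∃ θ ψ c, (∀ x, θ x = 1 ↔ x.1 ∈ 𝔔) ∧ CZ 𝔧 θ ψ z ∧ SC 𝔧 ψ c 3 VZ := by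
  have := M.fin
  obtain ⟨θ, s, k, e⟩ := th0 M
  have cj : ∀ u, ok1 0 u = 0 → u ≠ 0 → nth [] VZ u = [u] ∧ Commute (𝔧 9) (𝔧 u) ∧ ∃ v ∈ [0, 1, 13, 14, 15, 5, 6, 7, 8],
      (u = 1 → v = 0) ∧ evA 𝔧 [8, 9, 8] * 𝔧 v * (evA 𝔧 [8, 9, 8])⁻¹ = 𝔧 u := fun u hu u0 => by
    obtain ⟨e1, e2, v, hv, e3, e4⟩ := (by decide +kernel : ∀ u < 16, ok1 0 u = 0 → u ≠ 0 → nth [] VZ u = [u] ∧
      EA [u, 9] [9, u] = 0 ∧ ∃ v ∈ [0, 1, 13, 14, 15, 5, 6, 7, 8], (u = 1 → v = 0) ∧ EA [v, 8, 9, 8] ([8, 9, 8] ++ [u]) = 0)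
        u (by rw [ok_iff] at hu; omega) hu u0
    exact ⟨e1, by simpa [commute_iff_eq] using ea M _ _ e2, v, hv, e3, mul_inv_eq_of_eq_mul
      ((ea M _ _ e4).trans ((evA_append ..).trans (congrArg (· * _) (one_mul _))))⟩
  obtain ⟨-, c1, _, -, v0, t0⟩ := cj 1 rfl one_ne_zero
  obtain rfl := v0 rfl
  have n := fun U V e => (cK M).ne U V e
  obtain ⟨_, _, _, h0⟩ := ex_kt (le0 M) (Qp M).2 s k (t0 ▸ qm (by decide)) (t0 ▸ by simpa using n [1] [0] (by decide +kernel))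
  obtain ⟨_, _, _, h⟩ := ex_kt L hc hs hk m ne
  obtain ⟨ψ, i, r, z0, nf, H⟩ := k4 h0 h
  obtain ⟨c, cc, c1, c2⟩ := H (𝔧 9) (by simpa [commute_iff_eq] using n [0, 9] [9, 0] (by decide +kernel)) (t0 ▸ c1)
  replace z0 := z0 _ (jv M (k := 0) (by decide))
  obtain ⟨_, _, s1, r1⟩ := step M e ⟨i, r, z0, fun x q => nf x ((k x).1 q)⟩ (n := 0) (by decide) ⟨cc, fun u hu => by
    have v := jv M (k := u) (by rw [ok_iff] at hu; omega)
    rcases eq_or_ne u 0 with rfl | u0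
    · simpa [z0, wd, VZ] using c1 _ ((jv M (by decide)).trans t0.symm)
    obtain ⟨e1, e2, w, hw, -, e3⟩ := cj u hu u0
    rw [wd, e1, c2 _ (by rw [v, ← e3]; exact conj_mem_cj.2 (qm hw)) (v ▸ e2)]; simp⟩
  obtain ⟨_, _, s2, r2⟩ := step M e s1 (by decide) r1
  obtain ⟨ψ, c, s3, r3⟩ := step M e s2 (by decide) r2
  exact ⟨θ, ψ, c, k, s3, r3⟩

end H10.O
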