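import Cfsg.Agent.H10.O.E
import Cfsg.Agent.H10.K.W
import Cfsg.Agent.H1.GFitting

/-! The group `Ω₈⁺(2)` from an involution centralizer `2¹⁺⁸.(S₃ × S₃ × S₃)`. -/

set_option autoImplicit false
set_option linter.unusedSectionVars false

open Subgroup
namespace H10.O
open H0 H19 H16 H0.TR H0.Am H0.Co H0.Fi H10.K
open H0.PM (flat evA_flat evA_pair)

variable {A G Ω : Type*} [Group A] [Group G] [Finite G] [MulAction A Ω] {g : ℕ → A} {pt : ℕ → Ω} {z c : G} {U V W : List ℕ}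
  {θ : C[wds g J_W 0] →* T3} {ψ : C[wds g J_W 0] →* G}

local notation "𝔧" => wds g J_W
local notation "𝔨" => jj (wds g J_W)
local notation "𝔉" => Function.update (fun k => ψ (jj (wds g J_W) k)) 9 c

theorem ev (e : okH 16 9 U = 0) : evA 𝔉 U = ψ (evA 𝔨 U) :=
  (evA_congr _ fun _ hk => Function.update_of_ne (ne9 e hk).2 _ _).trans (map_evA ..).symm

variable (M : Md g pt H15.XW8p.P 256 8 H15.XW8p.B 174182400)
include M

theorem eF (U V : List ℕ) (e : EQ U V = 0) : evA 𝔉 U = evA 𝔉 V := by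
  rw [ev ((cK M).ok _ _ e).1, ev ((cK M).ok _ _ e).2, je M e]

theorem gl {T : TCert2} {R : List (List ℕ)} (hT : T.OK R 16) (cs : allL (okH 16 9) T.Sl = true)
    (rA : allL (fixL J_P 16 H15.XW8p.B) R = true) (rG : Rels 𝔉 R) (e : GW T W U = 0) : evA 𝔉 W = evA 𝔉 U := by
  obtain ⟨b, eb⟩ := hT.mem (g := fun k => (𝔧 k, 𝔉 k)) (fun r hr => (evA_pair ..).trans
    (Prod.ext (H15.CS.rels M (J_act M) rA r hr) (rG r hr))) (H := (C[𝔧 0].subtype.prod ψ).range) (fun r hr =>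
      have := allL_sound cs r hr
      ⟨evA 𝔨 r, (Prod.ext (jW M this) (ev this).symm).trans (evA_pair ..).symm⟩) (add0 e).1
  have o := (add0 (add0 e).2).1
  rw [evA_pair, Prod.ext_iff, ea M _ _ (add0 (add0 e).2).2, ← jW M o] at eb
  exact eb.2.symm.trans (by rw [ev o, ← Subtype.ext eb.1]; rfl)

theorem LS_c {i : ℕ} (hi : i < 7) {a : A} (h : ∀ k < 7, a * wds 𝔧 (nth [] XS i) k = wds 𝔧 (nth [] XS i) k * a) :
    ∃ l < 8, a = wds 𝔧 (nth [] LS i) l := by
  have h' := fun k (hk : k < 5) => h k (by omega)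
  interval_cases i
  exacts [(LY_c M h).imp fun _ e => ⟨by omega, e.2⟩, LZ0_c M h', LZ0_c M h', LZ1_c M h', LZ1_c M h', LZ2_c M h', LZ2_c M h']

variable (s : CZ (wds g J_W) θ ψ z) (r : SC (wds g J_W) ψ c 3 VZ)
include r

theorem aT {t : AT} (e : t.to EQ VY W U = 0) : evA 𝔉 W = evA 𝔉 U :=
  AT.to_sound (eF M) (by simpa using r.cc) (fun k hk => by
    have := (by decide +kernel : ∀ k < 8, okH 16 9 (nth [] VY k) = 0 ∧ nth [] VZ k = nth [] VY k) k hk
    rw [Function.update_self, Function.update_of_ne (by omega), r.cj k (ok_iff.2 (by omega)), wd, this.2]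
    exact (ev this.1).symm) e

theorem rev (l : ∀ k ∈ W, k < 16) : evA 𝔉 W.reverse = (evA 𝔉 W)⁻¹ := by
  induction W with
  | nil => simp
  | cons k W ih =>
    rw [List.reverse_cons, evA_append, ih fun k hk => l k (.tail _ hk), evA_cons, evA_cons, evA_nil, one_mul, mul_inv_rev]
    refine congrArg (· * _) (eq_inv_of_mul_eq_one_left ?_)
    rcases eq_or_ne k 9 with rfl | k9
    · simpa using r.cc
    · rw [Function.update_of_ne k9, ← map_mul, j2 M ⟨l k (.head _), k9⟩, map_one]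

include s

theorem pw {i : ℕ} (hi : i < 7) : evA 𝔉 (rp (nth 0 NS i) (nth [] US i)) = 1 := by
  obtain ⟨l, x0, e, p⟩ := p2 i hi
  have c1 : ∀ k < 7, okH 16 9 (nth [] (nth [] XS i) k) = 0 ∧
      Commute (evA 𝔉 (nth [] (nth [] XS i) k)) (evA 𝔉 (rp (nth 0 NS i) (nth [] US i))) := fun k hk => by
    have := fz (p1 (7 * i + k) (by omega) :)
    rw [show Nat.div (7 * i + k) 7 = i by change (7 * i + k) / 7 = i; omega,
      show Nat.mod (7 * i + k) 7 = k by change (7 * i + k) % 7 = k; omega] at this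
    rcases orZ_zero this with q | q
    · rw [neL_zero q]; exact ⟨rfl, .one_left _⟩
    have := aT M r (add0 q).2
    rw [evA_append, evA_append, rev M r (e ▸ fun k hk => by
      obtain ⟨_, a, b⟩ := List.mem_flatten.1 hk
      exact ltAll_zero l k (List.eq_of_mem_replicate a ▸ b)), mul_assoc, inv_mul_eq_iff_eq_mul, e] at this
    exact ⟨(add0 q).1, this⟩
  obtain ⟨a, ea⟩ := s.rng.ge (x := evA 𝔉 (rp (nth 0 NS i) (nth [] US i))) (mem_cent1.2 (by
    simpa [x0, s.z0] using (c1 0 (by decide)).2.symm.eq))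
  obtain ⟨n, hn, en⟩ := LS_c M hi (a := a.1) fun k hk => by
    obtain ⟨o, q⟩ := c1 k hk
    rw [wds.eq_1 _ (nth [] XS i), ← jW M o]
    rw [ev o, ← ea] at q
    exact congrArg Subtype.val (s.inj (by simpa using q.symm.eq : ψ (a * _) = ψ (_ * a)))
  obtain ⟨o, q⟩ := add0 (p n hn)
  rw [show a = evA 𝔨 _ from Subtype.ext (en.trans (jW M o).symm), ← ev (c := c) o] at ea
  rcases orZ_zero q with q | q
  · exact ea.symm.trans (eF M _ _ q)
  refine (jn M (add0 q).2 (s.inj ?_)).elim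
  rw [← ev (c := c) o, ← ev (c := c) (add0 (add0 (add0 q).2).1).1, ← aT M r (add0 q).1, evA_append, evA_append,
    rev M r (ltAll_zero l), ea, Am.evA_rp]
  group

theorem rm : Rels 𝔉 RM := by
  have r0 : Rels 𝔉 RN0 := KC.rels_idx ANc.2 fun i hi => aT M r (allZ_sound0 ANc.1 i hi)
  have rn : Rels 𝔉 RN := fun W hW => by
    simp only [RN, PW, List.mem_append, List.mem_cons, List.mem_map, List.mem_range] at hW
    rcases hW with h | rfl | h | ⟨i, hi, rfl⟩
    exacts [r0 _ (List.mem_of_mem_take h), by simpa using r.cc, r0 _ (List.mem_of_mem_drop h), pw M s r hi]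
  exact rn.append fun W hW => gl M tcB cNs.1 RNc.1 rn (allL_sound RNc.2.2 W hW)

theorem emb : ∃ ι : A →* G, ∀ a : C[𝔧 0], ι a = ψ a := by
  have L := fun W U => gl (W := W) (U := U) M tcN cNs.2 RNc.2.1 (rm M s r)
  obtain ⟨ι, e, -⟩ := H15.CS.hom M H15.XW8p.bound (H15.CS.rels M M.act Rlc.2) (a := wds 𝔉 Wp) fun W hW =>
    (evA_flat ..).symm.trans (L _ _ (allL_sound Rlc.1 W hW))
  refine ⟨ι, DFunLike.congr_fun (MonoidHom.eq_of_eqOn_dense (f := ι.comp C[𝔧 0].subtype) (g := ψ) (ktop M) ?_)⟩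
  rintro _ ⟨k, hk, rfl⟩
  refine (congrArg ι (jW M (okK k hk))).trans ((map_evA ..).trans (.trans (evA_congr _ fun l hl => ?_) (ev (c := c) (okK k hk))))
  obtain ⟨q1, q2⟩ := add0 (Whc l (ne9 (okK k hk) hl).1 (ne9 (okK k hk) hl).2)
  exact (e _ q1).trans ((evA_flat ..).symm.trans ((L _ _ (add0 q2).1).trans (one_mul _)))

theorem iso [IsSimpleGroup A] (hO : Cfsg.oddCore G = ⊥) (hz : orderOf z = 2)
    (k : ∀ x, θ x = 1 ↔ x.1 ∈ gen (wds 𝔧 Q_W) 9) : Nonempty (A ≃* G) := by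
  have := M.fin
  obtain ⟨ι, e⟩ := emb M s r
  have z0 : ι (𝔧 0) = z := by rw [← jv M (k := 0) (by decide), e, s.z0]
  have hι : Function.Injective ι := (ι.ker_eq_bot_iff).1 ((IsSimpleGroup.eq_bot_or_eq_top_of_normal _ inferInstance).resolve_right
    fun k => ne_one_of_order hz (z0 ▸ k.ge trivial))
  have ix : C[𝔧 0].index = 1575 := by
    have := C[𝔧 0].index_mul_card
    rw [cc0 M, M.card] at this
    omega
  refine ⟨.ofBijective ι ⟨hι, MonoidHom.range_eq_top.1 (top_holt hι (z := 𝔧 0)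
    (by rw [← orderOf_injective ι hι, z0, hz]) (by rw [ix]; decide)
    (fun c => (cK M).ne [9, 8] [8, 9] (by decide +kernel) (by simpa using c.1.1 _ _))
    (M.card ▸ ⟨by decide, fun n hn => (le_or_gt n 11).elim
      (fun j => absurd (hn ▸ Nat.factorial_le j) (by decide)) fun j => absurd (hn ▸ Nat.factorial_le j) (by decide)⟩) hO
    (fun x hx => let ⟨a, k⟩ := s.rng.ge (z0 ▸ hx); ⟨_, (e a).trans k⟩) fun v c => ?_)⟩⟩
  rw [z0] at c
  have v2 : v ^ 2 = 1 := hι (by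
    obtain ⟨b, k⟩ := isConj_iff.1 c
    rw [map_pow, ← k, conj_pow, ← hz, pow_orderOf_eq_one]; simp)
  obtain ⟨l, hl, q⟩ := (iv M (e := 1) v2 v2).resolve_left fun k => ne_one_of_order hz (by simpa [k] using c)
  obtain ⟨q1, q2⟩ := add0 (allZ_sound0 iv5 l hl)
  have m : wds g ivr_W l ∈ gen (wds 𝔧 Q_W) 9 := by
    rw [wds, neL_zero q2, evA_flat, evA_flat]; exact evA_mem_gen _ (ltAll_zero q1)
  exact (s.nf ⟨_, (le0 M).es.le_cent m⟩ ((k _).2 m) (e _ ▸ c.trans (ι.map_isConj q))).trans q.symm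

omit r s in
theorem recog [IsSimpleGroup A] {Q : Subgroup G} {θ : C[z] →* T3} (L : LE Q z) (hc : #Q = 512) (hs : Function.Surjective θ)
    (hk : ∀ x, θ x = 1 ↔ x.1 ∈ Q) : (∀ g : G, g * z * g⁻¹ * z⁻¹ ∈ Cfsg.oddCore G) ∨ Nonempty (G ≃* A) := by
  by_cases h : ∃ a, Commute z (a * z * a⁻¹) ∧ a * z * a⁻¹ ≠ z
  · obtain ⟨a, c, ne⟩ := h
    obtain ⟨a, m, ne⟩ := ex_nw L hc hs hk c ne
    obtain ⟨θ, ψ, c, k, s, r⟩ := start M L hc hs hk m ne
    have p := (L.lp m ne).symm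
    obtain ⟨b, -, e⟩ := p.l.es.exists_conj p.tQ p.notMem
    exact .inr ⟨(iso M s r (odd_bot L e) L.es.ord k).some.symm⟩
  push Not at h
  refine .inl fun g => ?_
  obtain ⟨x, hx, y, hy, rfl⟩ := mem_sup_of_normal_right.1 ((H10.Y.iso_sup L.es.zz h).ge (mem_top g))
  have n : (Cfsg.oddCore G).Normal := inferInstance
  convert n.conj_mem _ (mul_mem hy (n.conj_mem _ (inv_mem hy) z)) x using 1
  simp only [mul_inv_rev, mul_assoc, (Commute.inv_inv (mem_cent1.1 hx)).eq]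

end H10.O
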