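import Cfsg.Agent.H10.O.B
import Cfsg.Agent.H10.K.G

/-! Generated by tools/h10/o8/oa1.py. -/

set_option maxRecDepth 100000
set_option maxHeartbeats 0

namespace H10.O
open H16 H0.TR H0.Am H0.Co H0.Fi H10.K
open H0.PM (flat)
open scoped commutatorElement

noncomputable def SQ : List (List ℕ) := [[nat_lit 0],
  [nat_lit 1],
  [nat_lit 2],
  [nat_lit 3],
  [nat_lit 4],
  [nat_lit 5],
  [nat_lit 0, nat_lit 2],
  [nat_lit 1, nat_lit 2],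
  [nat_lit 0, nat_lit 3],
  [nat_lit 1, nat_lit 3],
  [nat_lit 0, nat_lit 4],
  [nat_lit 1, nat_lit 4],
  [nat_lit 2, nat_lit 4],
  [nat_lit 3, nat_lit 4],
  [nat_lit 0, nat_lit 5],
  [nat_lit 1, nat_lit 5],
  [nat_lit 2, nat_lit 5],
  [nat_lit 3, nat_lit 5]]
noncomputable def RE : List (List ℕ) := SQ.map (rp 2) ++ [[1, 0], [3, 2], [5, 4]].map (rp 3)
noncomputable def TE2d : List ℕ := [nat_lit 0x6da964621,
  nat_lit 0x50d6588e2]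
noncomputable def TE2 (k u : ℕ) : ℕ := Nat.land (Nat.shiftRight (nth (nat_lit 0) TE2d k) (Nat.mul u (nat_lit 6))) (nat_lit 63)
noncomputable def IE2d : List ℕ := [nat_lit 0x504,
  nat_lit 0x805]
noncomputable def IE2 (k u : ℕ) : ℕ := Nat.land (Nat.shiftRight (nth (nat_lit 0) IE2d k) (Nat.mul u (nat_lit 2))) (nat_lit 3)
noncomputable def DE2d : ℕ := nat_lit 0xda48d1400
noncomputable def DE2 (u : ℕ) : ℕ := Nat.land (Nat.shiftRight DE2d (Nat.mul u (nat_lit 6))) (nat_lit 63)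
noncomputable def EE2 (_ : ℕ) : ℕ := nat_lit 0
noncomputable def JE2 (_ : ℕ) : ℕ := nat_lit 0
noncomputable def WE2 (_ : ℕ) : ℕ := nat_lit 0
noncomputable def RLE2 : List (List Rule) := [[.defn, .rel (nat_lit 0) (nat_lit 0) [nat_lit 0]],
  [.rel (nat_lit 2) (nat_lit 0) [nat_lit 1], .defn, .rel (nat_lit 36) (nat_lit 0) [nat_lit 0, nat_lit 1, nat_lit 0, nat_lit 1, nat_lit 0]]]
noncomputable def cE2 : TCert2 := ⟨6, 6, 6, 2, 7, 15, 0, TE2, IE2, DE2, EE2, JE2, WE2, [], RLE2⟩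
noncomputable def TE4d : List ℕ := [nat_lit 0x3544da668,
  nat_lit 0x3544da668,
  nat_lit 0x8e2b6c829,
  nat_lit 0x715860aea]
noncomputable def TE4 (k u : ℕ) : ℕ := Nat.land (Nat.shiftRight (nth (nat_lit 0) TE4d k) (Nat.mul u (nat_lit 6))) (nat_lit 63)
noncomputable def IE4d : List ℕ := [nat_lit 0x52,
  nat_lit 0x52,
  nat_lit 0x504,
  nat_lit 0x805]
noncomputable def IE4 (k u : ℕ) : ℕ := Nat.land (Nat.shiftRight (nth (nat_lit 0) IE4d k) (Nat.mul u (nat_lit 2))) (nat_lit 3)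
noncomputable def DE4d : ℕ := nat_lit 0x374a8e8d100
noncomputable def DE4 (u : ℕ) : ℕ := Nat.land (Nat.shiftRight DE4d (Nat.mul u (nat_lit 7))) (nat_lit 127)
noncomputable def EE4 (_ : ℕ) : ℕ := nat_lit 0
noncomputable def JE4 (_ : ℕ) : ℕ := nat_lit 0
noncomputable def WE4 (_ : ℕ) : ℕ := nat_lit 0
noncomputable def RLE4 : List (List Rule) := [[.rel (nat_lit 12) (nat_lit 0) [nat_lit 2, nat_lit 0, nat_lit 2], .rel (nat_lit 16) (nat_lit 0) [nat_lit 3, nat_lit 0, nat_lit 3], .sub (nat_lit 0) [] []],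
  [.rel (nat_lit 14) (nat_lit 0) [nat_lit 2, nat_lit 1, nat_lit 2], .rel (nat_lit 18) (nat_lit 0) [nat_lit 3, nat_lit 1, nat_lit 3], .sub (nat_lit 2) [] []],
  [.defn, .rel (nat_lit 4) (nat_lit 0) [nat_lit 2]],
  [.rel (nat_lit 6) (nat_lit 0) [nat_lit 3], .defn, .rel (nat_lit 38) (nat_lit 0) [nat_lit 2, nat_lit 3, nat_lit 2, nat_lit 3, nat_lit 2]]]
noncomputable def cE4 : TCert2 := ⟨6, 6, 6, 4, 7, 31, 0, TE4, IE4, DE4, EE4, JE4, WE4, [[nat_lit 0],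
  [nat_lit 1]], RLE4⟩
noncomputable def TE6d : List ℕ := [nat_lit 0x3544da668,
  nat_lit 0x3544da668,
  nat_lit 0x3544da668,
  nat_lit 0x3544da668,
  nat_lit 0x8e2b6c829,
  nat_lit 0x715860aea]
noncomputable def TE6 (k u : ℕ) : ℕ := Nat.land (Nat.shiftRight (nth (nat_lit 0) TE6d k) (Nat.mul u (nat_lit 6))) (nat_lit 63)
noncomputable def IE6d : List ℕ := [nat_lit 0x52,
  nat_lit 0x52,
  nat_lit 0x52,
  nat_lit 0x52,
  nat_lit 0x504,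
  nat_lit 0x805]
noncomputable def IE6 (k u : ℕ) : ℕ := Nat.land (Nat.shiftRight (nth (nat_lit 0) IE6d k) (Nat.mul u (nat_lit 2))) (nat_lit 3)
noncomputable def DE6d : ℕ := nat_lit 0xd6908b454400
noncomputable def DE6 (u : ℕ) : ℕ := Nat.land (Nat.shiftRight DE6d (Nat.mul u (nat_lit 8))) (nat_lit 255)
noncomputable def EE6 (_ : ℕ) : ℕ := nat_lit 0
noncomputable def JE6 (_ : ℕ) : ℕ := nat_lit 0
noncomputable def WE6 (_ : ℕ) : ℕ := nat_lit 0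
noncomputable def RLE6 : List (List Rule) := [[.rel (nat_lit 20) (nat_lit 0) [nat_lit 4, nat_lit 0, nat_lit 4], .rel (nat_lit 28) (nat_lit 0) [nat_lit 5, nat_lit 0, nat_lit 5], .sub (nat_lit 0) [] []],
  [.rel (nat_lit 22) (nat_lit 0) [nat_lit 4, nat_lit 1, nat_lit 4], .rel (nat_lit 30) (nat_lit 0) [nat_lit 5, nat_lit 1, nat_lit 5], .sub (nat_lit 2) [] []],
  [.rel (nat_lit 24) (nat_lit 0) [nat_lit 4, nat_lit 2, nat_lit 4], .rel (nat_lit 32) (nat_lit 0) [nat_lit 5, nat_lit 2, nat_lit 5], .sub (nat_lit 4) [] []],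
  [.rel (nat_lit 26) (nat_lit 0) [nat_lit 4, nat_lit 3, nat_lit 4], .rel (nat_lit 34) (nat_lit 0) [nat_lit 5, nat_lit 3, nat_lit 5], .sub (nat_lit 6) [] []],
  [.defn, .rel (nat_lit 8) (nat_lit 0) [nat_lit 4]],
  [.rel (nat_lit 10) (nat_lit 0) [nat_lit 5], .defn, .rel (nat_lit 40) (nat_lit 0) [nat_lit 4, nat_lit 5, nat_lit 4, nat_lit 5, nat_lit 4]]]
noncomputable def cE6 : TCert2 := ⟨6, 6, 6, 6, 7, 63, 0, TE6, IE6, DE6, EE6, JE6, WE6, [[nat_lit 0],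
  [nat_lit 1],
  [nat_lit 2],
  [nat_lit 3]], RLE6⟩

theorem tcE2e_a : allZ2 (ent2 TE2 EE2 (selR RLE2 IE2) DE2 (nat_lit 7) (nat_lit 6) (nat_lit 6) (nat_lit 6) (nat_lit 2) (nat_lit 15) (nat_lit 0)) (nat_lit 2) (nat_lit 6) = true := by decide +kernel
theorem tcE2p_0 : allZ (eps2 TE2 EE2 JE2 WE2 RLE2 (nat_lit 7) (nat_lit 6) (nat_lit 6) (nat_lit 2) (nat_lit 0)) (nat_lit 0) (nat_lit 0) = true := by decide +kernel
theorem tcE2r : rulesChk RE cE2.Sl RLE2 (nat_lit 2) = true := by decide +kernel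
theorem tcE2n : 0 < cE2.M ∧ cE2.n0 ≤ cE2.M ∧ 0 < cE2.K ∧ cE2.K ≤ 6 ∧ cE2.D 0 = 0 := by decide +kernel
theorem tcE2q : cE2.M - cE2.n = 0 := by decide +kernel
theorem stE2 : allL (ltAll 0) cE2.Sl = true ∧ 0 < cE2.n0 ∧ cE2.K = 2 ∧ cE2.n0 * 1 = 6 := by decide +kernel
theorem tcE4e_a : allZ2 (ent2 TE4 EE4 (selR RLE4 IE4) DE4 (nat_lit 7) (nat_lit 6) (nat_lit 6) (nat_lit 6) (nat_lit 4) (nat_lit 31) (nat_lit 0)) (nat_lit 4) (nat_lit 6) = true := by decide +kernel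
theorem tcE4p_0 : allZ (eps2 TE4 EE4 JE4 WE4 RLE4 (nat_lit 7) (nat_lit 6) (nat_lit 6) (nat_lit 4) (nat_lit 0)) (nat_lit 0) (nat_lit 0) = true := by decide +kernel
theorem tcE4r : rulesChk RE cE4.Sl RLE4 (nat_lit 4) = true := by decide +kernel
theorem tcE4n : 0 < cE4.M ∧ cE4.n0 ≤ cE4.M ∧ 0 < cE4.K ∧ cE4.K ≤ 6 ∧ cE4.D 0 = 0 := by decide +kernel
theorem tcE4q : cE4.M - cE4.n = 0 := by decide +kernel
theorem stE4 : allL (ltAll 2) cE4.Sl = true ∧ 0 < cE4.n0 ∧ cE4.K = 4 ∧ cE4.n0 * 6 = 36 := by decide +kernel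
theorem tcE6e_a : allZ2 (ent2 TE6 EE6 (selR RLE6 IE6) DE6 (nat_lit 7) (nat_lit 6) (nat_lit 6) (nat_lit 6) (nat_lit 6) (nat_lit 63) (nat_lit 0)) (nat_lit 6) (nat_lit 6) = true := by decide +kernel
theorem tcE6p_0 : allZ (eps2 TE6 EE6 JE6 WE6 RLE6 (nat_lit 7) (nat_lit 6) (nat_lit 6) (nat_lit 6) (nat_lit 0)) (nat_lit 0) (nat_lit 0) = true := by decide +kernel
theorem tcE6r : rulesChk RE cE6.Sl RLE6 (nat_lit 6) = true := by decide +kernel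
theorem tcE6n : 0 < cE6.M ∧ cE6.n0 ≤ cE6.M ∧ 0 < cE6.K ∧ cE6.K ≤ 6 ∧ cE6.D 0 = 0 := by decide +kernel
theorem tcE6q : cE6.M - cE6.n = 0 := by decide +kernel
theorem stE6 : allL (ltAll 4) cE6.Sl = true ∧ 0 < cE6.n0 ∧ cE6.K = 6 ∧ cE6.n0 * 36 = 216 := by decide +kernel
theorem ivE : ivChk RE 6 = true := by decide +kernel

theorem tcE2e : ∀ k < 2, ∀ i < 6, (ent2 TE2 EE2 (selR RLE2 IE2) DE2 (nat_lit 7) (nat_lit 6) (nat_lit 6) (nat_lit 6) (nat_lit 2) (nat_lit 15) (nat_lit 0)) k i = 0 := allZ2_sound tcE2e_a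
theorem tcE2p : ∀ i < 0, (eps2 TE2 EE2 JE2 WE2 RLE2 (nat_lit 7) (nat_lit 6) (nat_lit 6) (nat_lit 2) (nat_lit 0)) i = 0 := allZ_sound0 tcE2p_0
theorem tcE2 : cE2.OK RE 6 := ⟨tcE2n, ivE, tcE2r, tcE2e, fun i h => tcE2p i (lt_of_lt_of_eq h tcE2q)⟩
theorem tcE4e : ∀ k < 4, ∀ i < 6, (ent2 TE4 EE4 (selR RLE4 IE4) DE4 (nat_lit 7) (nat_lit 6) (nat_lit 6) (nat_lit 6) (nat_lit 4) (nat_lit 31) (nat_lit 0)) k i = 0 := allZ2_sound tcE4e_a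
theorem tcE4p : ∀ i < 0, (eps2 TE4 EE4 JE4 WE4 RLE4 (nat_lit 7) (nat_lit 6) (nat_lit 6) (nat_lit 4) (nat_lit 0)) i = 0 := allZ_sound0 tcE4p_0
theorem tcE4 : cE4.OK RE 6 := ⟨tcE4n, ivE, tcE4r, tcE4e, fun i h => tcE4p i (lt_of_lt_of_eq h tcE4q)⟩
theorem tcE6e : ∀ k < 6, ∀ i < 6, (ent2 TE6 EE6 (selR RLE6 IE6) DE6 (nat_lit 7) (nat_lit 6) (nat_lit 6) (nat_lit 6) (nat_lit 6) (nat_lit 63) (nat_lit 0)) k i = 0 := allZ2_sound tcE6e_a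
theorem tcE6p : ∀ i < 0, (eps2 TE6 EE6 JE6 WE6 RLE6 (nat_lit 7) (nat_lit 6) (nat_lit 6) (nat_lit 6) (nat_lit 0)) i = 0 := allZ_sound0 tcE6p_0
theorem tcE6 : cE6.OK RE 6 := ⟨tcE6n, ivE, tcE6r, tcE6e, fun i h => tcE6p i (lt_of_lt_of_eq h tcE6q)⟩
theorem bdE : Bound RE 6 216 := (((Bound.zero _).step2 tcE2 stE2).step2 tcE4 stE4).step2 tcE6 stE6

end H10.O
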